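import Groth.Agent.Lib.ZarCoh.Compare
import Groth.Agent.Lib.Cech.Criterion
import Groth.Agent.Lib.QCoh.Localizing
import Groth.Prelude.Def_Coh

/-!
Quasi-coherent modules have no higher cohomology on affine opens.
-/

set_option linter.style.haveILetI false

universe u

open CategoryTheory CategoryTheory.Limits TopologicalSpace Opposite AlgebraicGeometry
open Groth.Agent.Lib.ZarCoh Groth.Agent.Lib.QCoh.Localizing

namespace Groth.Agent.Lib.ZarCoh.Affine

variable {X : Scheme.{u}}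

open Groth.Agent.Lib.Cech.Complex in
/-- A finite intersection of basic opens of an affine open is affine. -/
lemma inter_affine {U : X.Opens} (hU : IsAffineOpen U) {ι : Type u} (g : ι → Γ(X, U)) {q : ℕ}
    (i : Fin (q + 1) → ι) : ∃ h : Γ(X, U),
      Groth.Agent.Lib.Cech.Complex.inter (fun a ↦ X.basicOpen (g a)) i = X.basicOpen h := by
  exact Groth.Agent.Lib.Cech.Criterion.inter_mem
    {V : Opens X | ∃ h : Γ(X, U), V = X.basicOpen h}
    (by rintro _ ⟨a, rfl⟩ _ ⟨b, rfl⟩; exact ⟨a * b, (Scheme.basicOpen_mul X a b).symm⟩)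
    _ (fun a ↦ ⟨g a, rfl⟩) i

open Groth.Agent.Lib.Cech.Complex in
/-- The Cech complex of a quasi-coherent module for a standard cover of an affine open is exact in
positive degrees. -/
theorem exactSucc_standard (M : X.Modules) [M.IsQuasicoherent] {U : X.Opens}
    (hU : IsAffineOpen U) {ι : Type u} [Finite ι] (g : ι → Γ(X, U))
    (hg : Ideal.span (Set.range g) = ⊤) (q : ℕ) :
    ExactSucc (fun a ↦ X.basicOpen (g a)) (Coh.toAb M).obj q := by
  let V : ι → Opens X := fun a ↦ X.basicOpen (g a)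
  have hle : ∀ {q : ℕ} (i : Fin (q + 1) → ι), inter V i ≤ U := fun i ↦
    (inter_le V i 0).trans (X.basicOpen_le _)
  letI : ∀ (q : ℕ) (i : Fin (q + 1) → ι),
      Module Γ(X, U) ((Coh.toAb M).obj.obj (op (inter V i))) := fun q i ↦
    Module.compHom Γ(M, inter V i) (resR (hle i))
  have hmem : ∀ {q : ℕ} (i : Fin (q + 1) → ι), IsAffineOpen (inter V i) := fun i ↦ by
    obtain ⟨h, e⟩ := inter_affine hU g i
    rw [e]
    exact hU.basicOpen h
  have hcons : ∀ {q : ℕ} (i : Fin (q + 1) → ι) (k : ι),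
      inter V (Fin.cons k i : Fin (q + 2) → ι) = X.basicOpen (resR (hle i) (g k)) := fun i k ↦ by
    refine le_antisymm ?_ ?_
    · refine le_trans (le_inf (Groth.Agent.Lib.Cech.Acyclic.inter_cons_le V k i) ?_)
        (Scheme.basicOpen_res X (g k) (homOfLE (hle i)).op).ge
      exact inter_le V (Fin.cons k i) 0
    · refine (Scheme.basicOpen_res X (g k) (homOfLE (hle i)).op).le.trans (le_iInf fun a ↦ ?_)
      induction a using Fin.cases with
      | zero => exact inf_le_right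
      | succ b => exact inf_le_left.trans (inter_le V i b)
  refine Groth.Agent.Lib.Cech.Acyclic.exactSucc_of_localization V _ g hg ?_ ?_ ?_ q
  · intro p q i j h r x
    show Groth.Agent.Lib.QCoh.Localizing.res M h (resR (hle j) r • (show Γ(M, inter V j) from x)) =
      resR (hle i) r • Groth.Agent.Lib.QCoh.Localizing.res M h x
    rw [Groth.Agent.Lib.QCoh.Localizing.res_smul, resR_resR]
  · intro q i k t ht
    obtain ⟨n, hn⟩ := (localizes_of_isAffineOpen M (hmem i) (resR (hle i) (g k))).sep.exists_of_eq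
      (hcons i k) (Groth.Agent.Lib.Cech.Acyclic.inter_cons_le V k i) t ht
    refine ⟨n, ?_⟩
    show resR (hle i) (g k ^ n) • (show Γ(M, inter V i) from t) = 0
    rw [map_pow]
    exact hn
  · intro q i k s
    obtain ⟨n, t, ht⟩ := (localizes_of_isAffineOpen M (hmem i) (resR (hle i) (g k))).ext'.exists_of_eq
      (hcons i k) (Groth.Agent.Lib.Cech.Acyclic.inter_cons_le V k i) s
    refine ⟨n, t, ht.trans ?_⟩
    show resR (Groth.Agent.Lib.Cech.Acyclic.inter_cons_le V k i) (resR (hle i) (g k)) ^ n •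
        (show Γ(M, inter V (Fin.cons k i : Fin (q + 2) → ι)) from s) =
      resR (hle (Fin.cons k i : Fin (q + 2) → ι)) (g k ^ n) •
        (show Γ(M, inter V (Fin.cons k i : Fin (q + 2) → ι)) from s)
    rw [map_pow, resR_resR]

/-- Quasi-coherent modules have no higher cohomology on affine opens. -/
theorem HU_subsingleton (M : X.Modules) [M.IsQuasicoherent] {U : X.Opens} (hU : IsAffineOpen U)
    (n : ℕ) : Subsingleton (CohTop.HU (Coh.toAb M) (n + 1) U) := by
  let B : Set (Opens X) := {V | ∃ h : Γ(X, U), V = X.basicOpen h}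
  let Cov : ∀ (W : Opens X) (ι : Type u), (ι → Opens X) → Prop := fun W ι V ↦
    (∀ i, V i ∈ B) ∧ ∃ (hW : IsAffineOpen W) (g : ι → Γ(X, W)), Finite ι ∧
      Ideal.span (Set.range g) = ⊤ ∧ V = fun i ↦ X.basicOpen (g i)
  refine Groth.Agent.Lib.Cech.Criterion.subsingleton_HU_of_cech_vanishing B ?_ Cov ?_ ?_
    (Coh.toAb M) ?_ U ⟨1, (Scheme.basicOpen_of_isUnit X isUnit_one).symm⟩ n
  · rintro _ ⟨a, rfl⟩ _ ⟨b, rfl⟩; exact ⟨a * b, (Scheme.basicOpen_mul X a b).symm⟩
  · rintro W ι V ⟨hVB, hW, g, _, hg, rfl⟩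
    refine ⟨?_, hVB⟩
    have := (hW.iSup_basicOpen_eq_self_iff (s := Set.range g)).2 hg
    rw [iSup_range'] at this
    exact this
  · rintro _ ⟨f, rfl⟩ V hV
    have hW := hU.basicOpen f
    choose h hhV hxh using fun x : (X.basicOpen f : X.Opens) ↦
      hU.exists_basicOpen_le (V := V x ⊓ X.basicOpen f) ⟨x.1, hV x, x.2⟩ (X.basicOpen_le f x.2)
    obtain ⟨t, ht⟩ := hW.isCompact.elim_finite_subcover
      (fun x ↦ (X.basicOpen (h x) : Set X)) (fun x ↦ (X.basicOpen (h x)).isOpen)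
      (fun x hx ↦ Set.mem_iUnion.2 ⟨⟨x, hx⟩, hxh ⟨x, hx⟩⟩)
    have hb : ∀ x, X.basicOpen (resR (X.basicOpen_le f) (h x)) = X.basicOpen (h x) := fun x ↦
      (Scheme.basicOpen_res X (h x) (homOfLE (X.basicOpen_le f)).op).trans
        (inf_eq_right.2 ((hhV x).trans inf_le_right))
    let g : ULift.{u} t → Γ(X, X.basicOpen f) := fun i ↦ resR (X.basicOpen_le f) (h i.down.1)
    refine ⟨ULift.{u} t, fun i ↦ X.basicOpen (g i), ⟨fun i ↦ ⟨h i.down.1, hb _⟩, hW, g,
      inferInstance, ?_, rfl⟩, fun i ↦ ⟨i.down.1, (hb _).le.trans ((hhV _).trans inf_le_left)⟩⟩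
    refine (hW.iSup_basicOpen_eq_self_iff (s := Set.range g)).1 (le_antisymm
      (iSup_le fun r ↦ X.basicOpen_le _) fun x hx ↦ ?_)
    obtain ⟨i, hi, hxi⟩ := Set.mem_iUnion₂.1 (ht hx)
    refine Opens.mem_iSup.2 ⟨⟨g ⟨⟨i, hi⟩⟩, ⟨_, rfl⟩⟩, ?_⟩
    rw [hb]
    exact hxi
  · rintro W ι V ⟨-, hW, g, hι, hg, rfl⟩ q
    haveI := hι
    exact exactSucc_standard M hW g hg q

/-- Affine Serre vanishing. -/
theorem HH_subsingleton (X : Scheme.{u}) [IsAffine X] (M : X.Modules) [M.IsQuasicoherent]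
    (n : ℕ) : Subsingleton (Coh.HH X M (n + 1)) := by
  haveI : Subsingleton (Abelian.Ext.{u} (Basic.Zs.obj (⊤ : Opens X)) (Coh.toAb M) (n + 1)) :=
    HU_subsingleton M (isAffineOpen_top X) n
  exact (Compare.hTop (Coh.toAb M) (n + 1)).toEquiv.subsingleton

end Groth.Agent.Lib.ZarCoh.Affine
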