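import Groth.Agent.Lib.ZarCoh.Basic
import Mathlib.Algebra.Homology.DerivedCategory.Ext.Map
import Mathlib.CategoryTheory.Adjunction.Additive

/-!
Comparison of cohomology: restriction along open embeddings, direct images.
-/

set_option linter.style.haveILetI false

universe u

open CategoryTheory CategoryTheory.Limits TopologicalSpace Opposite CategoryTheory.Abelian
open Groth.Agent.Lib.ZarCoh.Basic

namespace Groth.Agent.Lib.ZarCoh.Compare

variable {X Y : TopCat.{u}}

instance pull_preservesFiniteColimits (f : X ⟶ Y) : PreservesFiniteColimits (CohTop.pull f) :=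
  haveI : PreservesColimitsOfSize.{0, 0} (CohTop.pull f) :=
    (TopCat.Sheaf.pullbackPushforwardAdjunction AddCommGrpCat.{u} f).leftAdjoint_preservesColimits
  PreservesColimitsOfSize.preservesFiniteColimits (CohTop.pull f)

instance pull_preservesFiniteLimits (f : X ⟶ Y) : PreservesFiniteLimits (CohTop.pull f) :=
  Functor.sheafPullbackConstruction.preservesFiniteLimits (Opens.map f) AddCommGrpCat.{u}
    (Opens.grothendieckTopology Y) (Opens.grothendieckTopology X)

instance pull_additive (f : X ⟶ Y) : (CohTop.pull f).Additive :=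
  haveI : PreservesBinaryBiproducts (CohTop.pull f) :=
    preservesBinaryBiproducts_of_preservesBinaryCoproducts _
  Functor.additive_of_preservesBinaryBiproducts _

section Exact

variable (Φ : CohTop.Ab X ⥤ CohTop.Ab Y) [Φ.Additive] [PreservesFiniteLimits Φ]
  [PreservesFiniteColimits Φ]

/-- The map on `Ext` induced by an exact functor and `c : P' ⟶ Φ P`. -/
noncomputable def cmp {P : CohTop.Ab X} {P' : CohTop.Ab Y} (c : P' ⟶ Φ.obj P)
    (n : ℕ) (F : CohTop.Ab X) : Ext.{u} P F n →+ Ext.{u} P' (Φ.obj F) n :=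
  ((Ext.mk₀ c).precomp (Φ.obj F) (zero_add n)).comp (Φ.mapExtAddHom P F n)

lemma cmp_apply {P : CohTop.Ab X} {P' : CohTop.Ab Y} (c : P' ⟶ Φ.obj P)
    (n : ℕ) (F : CohTop.Ab X) (e : Ext.{u} P F n) :
    cmp Φ c n F e = (Ext.mk₀ c).comp (e.mapExactFunctor Φ) (zero_add n) := rfl

lemma cmp_comp {P : CohTop.Ab X} {P' : CohTop.Ab Y} (c : P' ⟶ Φ.obj P) {n m p : ℕ}
    {F G : CohTop.Ab X} (e : Ext.{u} P F n) (z : Ext.{u} F G m) (hp : n + m = p) :
    cmp Φ c p G (e.comp z hp) = (cmp Φ c n F e).comp (z.mapExactFunctor Φ) hp := by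
  rw [cmp_apply, cmp_apply, Ext.mapExactFunctor_comp]
  exact (Ext.comp_assoc (Ext.mk₀ c) _ _ (zero_add n) hp (by omega)).symm

lemma cmp_mk₀ {P : CohTop.Ab X} {P' : CohTop.Ab Y} (c : P' ⟶ Φ.obj P) {F : CohTop.Ab X}
    (g : P ⟶ F) : cmp Φ c 0 F (Ext.mk₀ g) = Ext.mk₀ (c ≫ Φ.map g) := by
  rw [cmp_apply, Ext.mapExactFunctor_mk₀, Ext.mk₀_comp_mk₀]

/-- An exact functor preserving flasque sheaves induces bijections on `Ext` from `P`, as soon as it
does in degree zero. -/
theorem cmp_bijective {P : CohTop.Ab X} {P' : CohTop.Ab Y} (c : P' ⟶ Φ.obj P)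
    (h₀ : ∀ F, Function.Bijective (fun g : P ⟶ F ↦ c ≫ Φ.map g))
    (hΦ : ∀ F, TopCat.Sheaf.IsFlasque F → TopCat.Sheaf.IsFlasque (Φ.obj F))
    (hP' : ∀ (F : CohTop.Ab Y) (n : ℕ), TopCat.Sheaf.IsFlasque F →
      Subsingleton (Ext.{u} P' F (n + 1))) (n : ℕ) :
    ∀ F, Function.Bijective (cmp Φ c n F) := by
  induction n with
  | zero =>
    intro F
    have : (fun g : P ⟶ F ↦ cmp Φ c 0 F (Ext.mk₀ g)) = fun g ↦ Ext.mk₀ (c ≫ Φ.map g) :=
      funext fun g ↦ cmp_mk₀ Φ c g
    exact (Function.Bijective.of_comp_iff _ (Ext.mk₀_bijective P F)).1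
      (by
        rw [Function.comp_def, this]
        exact (Ext.mk₀_bijective _ _).comp (h₀ F))
  | succ n ih =>
    intro F
    have hS := injSES_shortExact F
    have hS' : ((injSES F).map Φ).ShortExact := hS.map_of_exact Φ
    have hδ : ∀ y, cmp Φ c (n + 1) F (y.comp hS.extClass rfl) =
        (cmp Φ c n _ y).comp hS'.extClass rfl := fun y ↦ by
      rw [cmp_comp, Ext.mapExactFunctor_extClass]
      rfl
    refine ⟨(injective_iff_map_eq_zero _).2 fun ξ hξ ↦ ?_, fun ξ ↦ ?_⟩
    · obtain ⟨y, rfl⟩ := Ext.covariant_sequence_exact₁ _ hS ξ (Ext.eq_zero_of_injective _) rfl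
      rw [hδ] at hξ
      obtain ⟨i, hi⟩ := Ext.covariant_sequence_exact₃ _ hS' _ rfl hξ
      obtain ⟨i, rfl⟩ := (ih _).2 i
      have : y = i.comp (Ext.mk₀ (injSES F).g) (add_zero n) := by
        apply (ih _).1
        rw [cmp_comp, Ext.mapExactFunctor_mk₀]
        exact hi.symm
      subst this
      rw [Ext.comp_assoc_of_second_deg_zero, hS.comp_extClass, Ext.comp_zero]
    · haveI := hΦ _ (injSES_flasque F)
      have := hP' (Φ.obj (injSES F).X₂) n inferInstance
      obtain ⟨y, rfl⟩ := Ext.covariant_sequence_exact₁ _ hS' ξ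
        (this.elim _ _) rfl
      obtain ⟨y, rfl⟩ := (ih _).2 y
      exact ⟨y.comp hS.extClass rfl, hδ y⟩

end Exact

section Top

/-- The free sheaf on the whole space is the constant sheaf. -/
noncomputable def topIso :
    Zs.obj (⊤ : Opens X) ≅ (constantSheaf (Opens.grothendieckTopology X) AddCommGrpCat.{u}).obj
      (AddCommGrpCat.of (ULift.{u} ℤ)) where
  hom := (homEquiv ⊤ _).symm (constEquiv _ (𝟙 _))
  inv := (constEquiv _).symm (homEquiv ⊤ _ (𝟙 _))
  hom_inv_id := (homEquiv ⊤ _).injective (by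
    rw [homEquiv_comp, Equiv.apply_symm_apply, ← constEquiv_comp]
    simp)
  inv_hom_id := (constEquiv _).injective (by
    rw [constEquiv_comp, Equiv.apply_symm_apply, ← homEquiv_comp]
    simp)

/-- `H^n(X, F) = H^n(⊤, F)`. -/
noncomputable def hTop (F : CohTop.Ab X) (n : ℕ) :
    CohTop.H F n ≃+ Ext.{u} (Zs.obj (⊤ : Opens X)) F n where
  __ := (Ext.mk₀ (topIso (X := X)).hom).precomp F (zero_add n)
  invFun := (Ext.mk₀ (topIso (X := X)).inv).precomp F (zero_add n)
  left_inv x := by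
    change (Ext.mk₀ _).comp ((Ext.mk₀ _).comp x (zero_add n)) (zero_add n) = x
    rw [Ext.mk₀_comp_mk₀_assoc, Iso.inv_hom_id, Ext.mk₀_id_comp]
  right_inv x := by
    change (Ext.mk₀ _).comp ((Ext.mk₀ _).comp x (zero_add n)) (zero_add n) = x
    rw [Ext.mk₀_comp_mk₀_assoc, Iso.hom_inv_id, Ext.mk₀_id_comp]

lemma hTop_apply (F : CohTop.Ab X) (n : ℕ) (x : CohTop.H F n) :
    hTop F n x = (Ext.mk₀ (topIso (X := X)).hom).comp x (zero_add n) := rfl

lemma hTop_comp {F G : CohTop.Ab X} {n m p : ℕ} (x : CohTop.H F n) (z : Ext.{u} F G m)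
    (hp : n + m = p) : hTop G p (x.comp z hp) = (hTop F n x).comp z hp :=
  (Ext.comp_assoc (Ext.mk₀ (topIso (X := X)).hom) x z (zero_add n) hp (by omega)).symm

end Top

section Open

variable {e : X ⟶ Y} (he : Topology.IsOpenEmbedding e)

/-- Restriction along an open embedding (precomposition with the image functor). -/
noncomputable abbrev rst : CohTop.Ab Y ⥤ CohTop.Ab X := he.sheafPullback AddCommGrpCat.{u}

instance rst_preservesFiniteLimits : PreservesFiniteLimits (rst he) :=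
  preservesFiniteLimits_of_natIso (he.sheafPullbackIso AddCommGrpCat.{u})

instance rst_preservesFiniteColimits : PreservesFiniteColimits (rst he) :=
  preservesFiniteColimits_of_natIso (he.sheafPullbackIso AddCommGrpCat.{u})

instance rst_additive : (rst he).Additive where

lemma rst_flasque (F : CohTop.Ab Y) [TopCat.Sheaf.IsFlasque F] :
    TopCat.Sheaf.IsFlasque ((rst he).obj F) where
  epi {U V} i := TopCat.Presheaf.IsFlasque.epi (F := F.obj) (he.functor.op.map i)

/-- The tautological map `ℤ_V → (ℤ_{e V})|_X`. -/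
noncomputable def openGen (V : Opens X) : Zs.obj V ⟶ (rst he).obj (Zs.obj (he.functor.obj V)) :=
  (homEquiv V _).symm (gen (he.functor.obj V))

/-- `H^n(e V, F) → H^n(V, F|_X)`. -/
noncomputable abbrev restrMap (V : Opens X) (n : ℕ) (F : CohTop.Ab Y) :
    Ext.{u} (Zs.obj (he.functor.obj V)) F n →+ Ext.{u} (Zs.obj V) ((rst he).obj F) n :=
  cmp (rst he) (openGen he V) n F

/-- `H^n(e V, F) = H^n(V, F|_X)`. -/
theorem restrMap_bijective (V : Opens X) (n : ℕ) (F : CohTop.Ab Y) :
    Function.Bijective (restrMap he V n F) := by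
  refine cmp_bijective (rst he) _ (fun G ↦ ?_) (fun G hG ↦ ?_) (fun G m hG ↦ ?_) n F
  · have : (fun g ↦ openGen he V ≫ (rst he).map g) =
        (fun g : Zs.obj (he.functor.obj V) ⟶ G ↦
          (homEquiv V _).symm (homEquiv (he.functor.obj V) G g)) := by
      funext g
      apply (homEquiv V _).injective
      rw [homEquiv_comp, openGen]
      erw [Equiv.apply_symm_apply, Equiv.apply_symm_apply]
      rw [homEquiv_apply g]
      rfl
    rw [this]
    exact (Equiv.bijective _).comp (Equiv.bijective _)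
  · exact rst_flasque he G
  · exact HU_flasque G V m

/-- `H^n(e V, F) = H^n(V, F|_X)`. -/
noncomputable def restrEquiv (V : Opens X) (n : ℕ) (F : CohTop.Ab Y) :
    Ext.{u} (Zs.obj (he.functor.obj V)) F n ≃+ Ext.{u} (Zs.obj V) ((rst he).obj F) n :=
  AddEquiv.ofBijective _ (restrMap_bijective he V n F)

end Open

section Push

variable (f : X ⟶ Y)

/-- The pullback-pushforward adjunction. -/
noncomputable abbrev ppAdj : CohTop.pull f ⊣ CohTop.push f :=
  TopCat.Sheaf.pullbackPushforwardAdjunction AddCommGrpCat.{u} f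

/-- The tautological map `ℤ_{f⁻¹V} → f⁻¹ ℤ_V`. -/
noncomputable def pullGen (V : Opens Y) :
    Zs.obj ((Opens.map f).obj V) ⟶ (CohTop.pull f).obj (Zs.obj V) :=
  (homEquiv _ _).symm (((ppAdj f).unit.app (Zs.obj V)).hom.app (op V) (gen V))

/-- `H^n(V, f_* F) → H^n(f⁻¹ V, F)`. -/
noncomputable def pushMap (V : Opens Y) (n : ℕ) (F : CohTop.Ab X) :
    Ext.{u} (Zs.obj V) ((CohTop.push f).obj F) n →+
      Ext.{u} (Zs.obj ((Opens.map f).obj V)) F n :=
  ((Ext.mk₀ ((ppAdj f).counit.app F)).postcomp _ (add_zero n)).comp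
    (cmp (CohTop.pull f) (pullGen f V) n ((CohTop.push f).obj F))

lemma pushMap_apply (V : Opens Y) (n : ℕ) (F : CohTop.Ab X)
    (e : Ext.{u} (Zs.obj V) ((CohTop.push f).obj F) n) :
    pushMap f V n F e = (cmp (CohTop.pull f) (pullGen f V) n _ e).comp
      (Ext.mk₀ ((ppAdj f).counit.app F)) (add_zero n) := rfl

lemma pushMap_natural (V : Opens Y) (n : ℕ) {F G : CohTop.Ab X} (φ : F ⟶ G)
    (e : Ext.{u} (Zs.obj V) ((CohTop.push f).obj F) n) :
    pushMap f V n G (e.comp (Ext.mk₀ ((CohTop.push f).map φ)) (add_zero n)) =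
      (pushMap f V n F e).comp (Ext.mk₀ φ) (add_zero n) := by
  rw [pushMap_apply, pushMap_apply, cmp_comp, Ext.mapExactFunctor_mk₀,
    Ext.comp_assoc_of_second_deg_zero, Ext.comp_assoc_of_second_deg_zero,
    Ext.mk₀_comp_mk₀, Ext.mk₀_comp_mk₀]
  congr 2
  exact (ppAdj f).counit.naturality φ

lemma pushMap_mk₀ (V : Opens Y) {F : CohTop.Ab X} (g : Zs.obj V ⟶ (CohTop.push f).obj F) :
    pushMap f V 0 F (Ext.mk₀ g) =
      Ext.mk₀ ((homEquiv ((Opens.map f).obj V) F).symm (homEquiv V _ g)) := by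
  rw [pushMap_apply, cmp_mk₀, Ext.mk₀_comp_mk₀]
  congr 1
  apply (homEquiv _ _).injective
  rw [Category.assoc, homEquiv_comp, pullGen]
  erw [Equiv.apply_symm_apply, Equiv.apply_symm_apply]
  rw [homEquiv_apply g]
  have h2 : (ppAdj f).unit.app (Zs.obj V) ≫
      (CohTop.push f).map ((CohTop.pull f).map g ≫ (ppAdj f).counit.app F) = g := by
    simp
  conv_rhs => rw [← h2]
  rfl

lemma pushMap_rs {V W : Opens Y} (h : W ≤ V) (n : ℕ) (F : CohTop.Ab X)
    (e : Ext.{u} (Zs.obj V) ((CohTop.push f).obj F) n) :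
    pushMap f W n F (rs _ n h e) =
      rs F n ((Opens.map f).monotone h) (pushMap f V n F e) := by
  have hg : pullGen f W ≫ (CohTop.pull f).map (Zs.map (homOfLE h)) =
      Zs.map (homOfLE ((Opens.map f).monotone h)) ≫ pullGen f V := by
    apply (homEquiv _ _).injective
    rw [homEquiv_comp, homEquiv_res, pullGen, pullGen]
    erw [Equiv.apply_symm_apply, Equiv.apply_symm_apply]
    have hn := congrArg (fun t : Zs.obj W ⟶ _ ↦ t.hom.app (op W) (gen W))
      ((ppAdj f).unit.naturality (Zs.map (homOfLE h)))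
    refine hn.symm.trans ?_
    change ((ppAdj f).unit.app (Zs.obj V)).hom.app (op W)
      ((Zs.map (homOfLE h)).hom.app (op W) (gen W)) = _
    rw [map_gen]
    exact ((ppAdj f).unit.app (Zs.obj V)).hom.naturality_apply _ _
  rw [pushMap_apply, pushMap_apply, rs_apply, rs_apply, cmp_apply, cmp_apply,
    Ext.mapExactFunctor_comp, Ext.mapExactFunctor_mk₀, ← Ext.comp_assoc _ _ _ (zero_add 0)
      (zero_add n) (by omega), Ext.mk₀_comp_mk₀, hg, ← Ext.mk₀_comp_mk₀,
    Ext.comp_assoc_of_second_deg_zero, ← Ext.comp_assoc _ _ _ _ (add_zero n) (by omega)]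

end Push

end Groth.Agent.Lib.ZarCoh.Compare
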