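import Groth.Agent.Lib.ZarCoh.Basic
import Mathlib.CategoryTheory.Abelian.Injective.Ext
import Mathlib.CategoryTheory.Abelian.RightDerived
import Mathlib.Algebra.Homology.ShortComplex.Ab
import Mathlib.Algebra.Category.Grp.Limits

/-!
Vanishing criterion for higher direct images of abelian sheaves.
-/

set_option linter.style.haveILetI false

universe u

open CategoryTheory CategoryTheory.Limits TopologicalSpace Opposite CategoryTheory.Abelian
open Groth.Agent.Lib.ZarCoh.Basic

namespace Groth.Agent.Lib.ZarCoh.RpushVanish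

variable {X Y : TopCat.{u}} (f : X ⟶ Y)

/-- Exactness of a complex of sheaves can be checked by lifting sections locally. -/
lemma exact_of_local_lifts (S : ShortComplex (CohTop.Ab Y))
    (h : ∀ (U : Opens Y) (z : S.X₂.obj.obj (op U)), S.g.hom.app (op U) z = 0 → ∀ x ∈ U,
      ∃ (W : Opens Y) (hW : W ≤ U) (t : S.X₁.obj.obj (op W)), x ∈ W ∧
        S.f.hom.app (op W) t = S.X₂.obj.map (homOfLE hW).op z) :
    S.Exact := by
  rw [ShortComplex.exact_iff_epi_kernel_lift]
  refine (TopCat.Sheaf.isLocallySurjective_iff_epi _).1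
    ((TopCat.Presheaf.isLocallySurjective_iff _).2 fun U k x hx ↦ ?_)
  have hk : S.g.hom.app (op U) ((kernel.ι S.g).hom.app (op U) k) = 0 := by
    rw [← ConcreteCategory.comp_apply, ← NatTrans.comp_app, ← ObjectProperty.FullSubcategory.comp_hom,
      kernel.condition]
    rfl
  obtain ⟨W, hW, t, hxW, ht⟩ := h U _ hk x hx
  refine ⟨W, hW, ⟨t, ?_⟩, hxW⟩
  haveI : Mono ((kernel.ι S.g).hom.app (op W)) := by
    haveI : (sheafToPresheaf (Opens.grothendieckTopology Y) AddCommGrpCat.{u}).IsRightAdjoint :=
      (sheafificationAdjunction _ _).isRightAdjoint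
    haveI : Mono (kernel.ι S.g).hom :=
      (sheafToPresheaf (Opens.grothendieckTopology Y) AddCommGrpCat.{u}).map_mono (kernel.ι S.g)
    infer_instance
  apply (AddCommGrpCat.mono_iff_injective ((kernel.ι S.g).hom.app (op W))).1 inferInstance
  rw [← ConcreteCategory.comp_apply, ← NatTrans.comp_app, ← ObjectProperty.FullSubcategory.comp_hom,
    kernel.lift_ι, ht]
  exact ((kernel.ι S.g).hom.naturality_apply (homOfLE hW).op k).symm

/-- If, on a basis, positive degree classes on preimages vanish, the higher direct image vanishes. -/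
theorem isZero_RpushAb {F : CohTop.Ab X} {B : Set (Opens Y)} (hB : Opens.IsBasis B) (n : ℕ)
    (h : ∀ W ∈ B, Subsingleton (CohTop.HU F (n + 1) ((Opens.map f).obj W))) :
    IsZero ((CohTop.Rpush f (n + 1)).obj F) := by
  let R := injectiveResolution F
  refine IsZero.of_iso ?_ (R.isoRightDerivedObj (CohTop.push f) (n + 1))
  refine HomologicalComplex.ExactAt.isZero_homology ?_
  have hS : (((CohTop.push f).mapHomologicalComplex _).obj R.cocomplex).sc' n (n + 1) (n + 2) |>.Exact := by
    refine exact_of_local_lifts _ fun U z hz x hx ↦ ?_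
    obtain ⟨W, hWB, hxW, hWU⟩ := Opens.isBasis_iff_nbhd.1 hB hx
    let W' := (Opens.map f).obj W
    let g : Zs.obj W' ⟶ R.cocomplex.X (n + 1) :=
      (homEquiv W' _).symm (((CohTop.push f).obj (R.cocomplex.X (n + 1))).obj.map (homOfLE hWU).op z)
    have hg : g ≫ R.cocomplex.d (n + 1) (n + 2) = 0 := by
      apply (homEquiv W' _).injective
      rw [homEquiv_comp]
      erw [Equiv.apply_symm_apply]
      have h1 := (((CohTop.push f).map (R.cocomplex.d (n + 1) (n + 2))).hom.naturality_apply
        (homOfLE hWU).op z)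
      refine h1.trans ?_
      erw [hz, map_zero]
      rw [homEquiv_apply]
      rfl
    haveI : Subsingleton (Ext.{u} (Zs.obj W') F (n + 1)) := h W hWB
    obtain ⟨t, ht⟩ := (R.extMk_eq_zero_iff g (n + 2) rfl hg n rfl).1 (Subsingleton.elim _ _)
    refine ⟨W, hWU, homEquiv W' _ t, hxW, ?_⟩
    have := congrArg (homEquiv W' _) ht
    rw [homEquiv_comp] at this
    exact this.trans ((homEquiv W' _).apply_symm_apply _)
  exact (HomologicalComplex.exactAt_iff' _ n (n + 1) (n + 2) (by simp) (by simp)).2 hS

end Groth.Agent.Lib.ZarCoh.RpushVanish
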