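import Groth.Agent.Lib.ZarCoh.Morph

/-!
Linearity over a base ring of the comparison for affine morphisms.
-/

universe u

open CategoryTheory AlgebraicGeometry
open Groth.Agent.Lib.ZarCoh

namespace Groth.Agent.Lib.ZarCoh.Linear

variable {A : Type u} [CommRing A] {X S : Scheme.{u}} [X.Over (Spec (CommRingCat.of A))]
  [S.Over (Spec (CommRingCat.of A))] (f : X ⟶ S)

lemma toGlobal_comp (hf : f ≫ (S ↘ Spec (CommRingCat.of A)) = X ↘ Spec (CommRingCat.of A)) (a : A) :
    Coh.toGlobal (X ↘ Spec (CommRingCat.of A)) a =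
      f.appTop (Coh.toGlobal (S ↘ Spec (CommRingCat.of A)) a) := by
  rw [← hf]
  rfl

/-- `H^n(S, f_*M) ≅ H^n(X, M)`, linearly over the base ring, for an affine morphism. -/
noncomputable def affineLinearEquiv [IsAffineHom f]
    (hf : f ≫ (S ↘ Spec (CommRingCat.of A)) = X ↘ Spec (CommRingCat.of A))
    (M : X.Modules) [M.IsQuasicoherent] (n : ℕ) :
    Coh.HH S ((Coh.push f).obj M) n ≃ₗ[A] Coh.HH X M n where
  __ := Morph.affineEquiv f M n
  map_smul' a x := Morph.affineEquiv_smul f M n _ _ (toGlobal_comp f hf a) x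

end Groth.Agent.Lib.ZarCoh.Linear
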