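import Groth.Agent.Lib.Modules.Support
import Groth.Prelude.Def_PicLoc

/-!
# Supports of inverse images
-/

universe u

open CategoryTheory Limits AlgebraicGeometry Opposite TopologicalSpace

set_option linter.style.haveILetI false

namespace ZarCoh.SupportPullback

open Groth.Agent.Lib.Modules

variable {X Y : Scheme.{u}} (g : X ⟶ Y) (M : Y.Modules)

/-- The inverse image, restricted to the preimage of an open. -/
noncomputable def restrictIso (V : Y.Opens) :
    ((Scheme.Modules.pullback g).obj M).restrict (g ⁻¹ᵁ V).ι ≅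
      (Scheme.Modules.pullback (g ∣_ V)).obj (M.restrict V.ι) :=
  (Scheme.Modules.restrictFunctorIsoPullback (g ⁻¹ᵁ V).ι).app _ ≪≫
    ((Scheme.Modules.pullbackComp (g ⁻¹ᵁ V).ι g).app M) ≪≫
    (Scheme.Modules.pullbackCongr (morphismRestrict_ι g V).symm).app M ≪≫
    (Scheme.Modules.pullbackComp (g ∣_ V) V.ι).symm.app M ≪≫
    (Scheme.Modules.pullback (g ∣_ V)).mapIso
      ((Scheme.Modules.restrictFunctorIsoPullback V.ι).symm.app M)

/-- Generating sections over an open give generating sections of the restriction. -/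
theorem exists_restrictGens (V : Y.Opens)
    (τ : ((show SheafOfModules Y.ringCatSheaf from M).over V).GeneratingSections) [Finite τ.I] :
    ∃ σ : SheafOfModules.GeneratingSections (R := (V : Scheme.{u}).ringCatSheaf) (M.restrict V.ι),
      Finite σ.I := by
  let e := Scheme.Modules.overEquiv V
  haveI : e.functor.IsLeftAdjoint := e.isLeftAdjoint_functor
  haveI : PreservesColimitsOfSize.{u, u} e.functor := e.toAdjunction.leftAdjoint_preservesColimits
  let σ₁ := τ.map e.functor (V.sheafOfModulesEquivOverUnit Y.ringCatSheaf).symm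
  exact ⟨σ₁.ofEpi ((Scheme.Modules.overFunctorEquiv V).hom.app M), inferInstanceAs (Finite τ.I)⟩

/-- Generating sections pull back. -/
theorem exists_pullbackGens (N : Y.Modules)
    (τ : SheafOfModules.GeneratingSections (R := Y.ringCatSheaf) N) [Finite τ.I] :
    ∃ σ : SheafOfModules.GeneratingSections (R := X.ringCatSheaf)
      ((Scheme.Modules.pullback g).obj N), Finite σ.I := by
  let F : SheafOfModules.{u} Y.ringCatSheaf ⥤ SheafOfModules.{u} X.ringCatSheaf :=
    Scheme.Modules.pullback g
  haveI : PreservesColimitsOfSize.{u, u} F :=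
    (Scheme.Modules.pullbackPushforwardAdjunction g).leftAdjoint_preservesColimits
  exact ⟨τ.map F (PicLoc.pullbackStructureIso g).symm, inferInstanceAs (Finite τ.I)⟩

variable [SheafOfModules.IsFiniteType (R := Y.ringCatSheaf) M]

theorem support_pullback_subset :
    CohB1.support ((Scheme.Modules.pullback g).obj M) ⊆ ⇑g ⁻¹' CohB1.support M := by
  intro x hx
  by_contra hy
  let V : Y.Opens := ⟨(CohB1.support M)ᶜ, (Support.isClosed_support M).isOpen_compl⟩
  have hz : IsZero (M.restrict V.ι) := by
    rw [← Support.support_eq_empty_iff, Support.support_restrict, Set.eq_empty_iff_forall_notMem]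
    intro v hv
    exact v.2 hv
  have hz'' : IsZero ((Scheme.Modules.pullback (g ∣_ V)).obj (M.restrict V.ι)) :=
    haveI : (Scheme.Modules.pullback (g ∣_ V)).IsLeftAdjoint :=
      (Scheme.Modules.pullbackPushforwardAdjunction (g ∣_ V)).isLeftAdjoint
    Functor.map_isZero _ hz
  have he : CohB1.support (((Scheme.Modules.pullback g).obj M).restrict (g ⁻¹ᵁ V).ι) = ∅ :=
    Support.support_eq_empty_iff.mpr (hz''.of_iso (restrictIso g M V))
  rw [Support.support_restrict] at he
  exact Set.eq_empty_iff_forall_notMem.mp he ⟨x, hy⟩ hx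

theorem isClosed_support_pullback :
    IsClosed (CohB1.support ((Scheme.Modules.pullback g).obj M)) := by
  obtain ⟨σ, hσ⟩ := SheafOfModules.IsFiniteType.exists_localGeneratorsData
    (show SheafOfModules Y.ringCatSheaf from M)
  have hcov : ∀ y : Y, ∃ i, y ∈ σ.X i := fun y => by
    obtain ⟨W, f, ⟨i, ⟨k⟩⟩, hW⟩ := σ.coversTop ⊤ y trivial
    exact ⟨i, leOfHom k hW⟩
  let U : σ.I → X.Opens := fun i => g ⁻¹ᵁ σ.X i
  have hU : ⨆ i, U i = ⊤ := eq_top_iff.mpr fun x _ => by
    obtain ⟨i, hi⟩ := hcov (g x)
    exact Opens.mem_iSup.mpr ⟨i, hi⟩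
  have key : ∀ i, IsClosed (⇑(U i).ι ⁻¹'
      CohB1.support ((Scheme.Modules.pullback g).obj M)) := by
    intro i
    let V : Y.Opens := σ.X i
    haveI := (hσ.isFiniteType i).finite
    obtain ⟨σ₁, hσ₁⟩ := exists_restrictGens M V (σ.generators i)
    obtain ⟨σ₂, hσ₂⟩ := exists_pullbackGens (g ∣_ V) (M.restrict V.ι) σ₁
    let σ₃ : SheafOfModules.GeneratingSections (R := (U i : Scheme.{u}).ringCatSheaf)
        (((Scheme.Modules.pullback g).obj M).restrict (U i).ι) :=
      σ₂.ofEpi (restrictIso g M V).inv
    haveI : Finite σ₃.I := inferInstanceAs (Finite σ₂.I)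
    haveI : σ₃.IsFiniteType := ⟨inferInstance⟩
    haveI : SheafOfModules.IsFiniteType (R := (U i : Scheme.{u}).ringCatSheaf)
        (((Scheme.Modules.pullback g).obj M).restrict (U i).ι) :=
      SheafOfModules.IsFiniteType.mk (C := (U i : Scheme.{u}).Opens)
        (R := (U i : Scheme.{u}).ringCatSheaf)
        (M := ((Scheme.Modules.pullback g).obj M).restrict (U i).ι)
        ⟨σ₃.localGeneratorsData, by constructor; intro W; exact ⟨(inferInstance : Finite σ₃.I)⟩⟩
    rw [← Support.support_restrict]
    exact Support.isClosed_support _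
  rw [(TopologicalSpace.IsOpenCover.mk hU).isClosed_iff_coe_preimage]
  exact fun i => key i

end ZarCoh.SupportPullback
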