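import Groth.Agent.Lib.PushClosed.Torsion
import Groth.Agent.Lib.ClSub.Basis
import Groth.Agent.Lib.CohBasics.Affine
import Groth.Agent.Lib.QCoh.Pullback
import Groth.Prelude.Def_ClSub2

/-!
# Modules killed by the ideal of a closed subscheme are pushforwards
-/

set_option autoImplicit false
set_option linter.style.haveILetI false
universe u

open CategoryTheory Limits AlgebraicGeometry Opposite TopologicalSpace

namespace ZarCoh.PushKilled

open Groth.Agent.Lib

variable {Z X : Scheme.{u}} (i : Z ⟶ X) [IsClosedImmersion i] (M : X.Modules)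

/-- A module killed by the ideal of `Z` is the direct image of its restriction. -/
theorem isIso_unit (h : _root_.ClSub.KilledByIdeal i.ker M) :
    IsIso ((Scheme.Modules.pullbackPushforwardAdjunction i).unit.app M) := by
  haveI := PushClosed.Basic.pushforward_isLeftAdjoint i
  let H := (Scheme.Modules.pushforward i).rightAdjoint
  let adj : Scheme.Modules.pushforward i ⊣ H :=
    Adjunction.ofIsLeftAdjoint (Scheme.Modules.pushforward i)
  haveI := PushClosed.Unit.counit_mono i adj M
  have hiso : IsIso (adj.counit.app M) := Groth.Agent.Lib.ClSub.Basis.isIso_of_bijective_affine _ fun U =>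
    ⟨PushClosed.Torsion.injective_app_of_mono _ U.1, fun s =>
      (PushClosed.Torsion.range_counit i adj M U s).mpr fun r hr => h U r hr s⟩
  let adj₂ := Scheme.Modules.pullbackPushforwardAdjunction i
  have h1 : IsSplitMono (adj₂.unit.app ((Scheme.Modules.pushforward i).obj (H.obj M))) :=
    IsSplitMono.mk' ⟨_, adj₂.right_triangle_components _⟩
  have hm : Mono (adj₂.unit.app M) := by
    have hn := adj₂.unit.naturality (asIso (adj.counit.app M)).inv
    have : Mono ((asIso (adj.counit.app M)).inv ≫
        adj₂.unit.app ((Scheme.Modules.pushforward i).obj (H.obj M))) := inferInstance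
    simp only [Functor.id_obj, Functor.comp_obj, Functor.id_map] at hn
    rw [hn] at this
    exact @mono_of_mono _ _ _ _ _ (adj₂.unit.app M) _ this
  haveI := PushClosed.Unit.epi_unit i M
  exact isIso_of_mono_of_epi _

/-- The restriction to `Z`, and its properties. -/
theorem exists_pushforward_iso [M.IsQuasicoherent]
    [SheafOfModules.IsFiniteType (R := X.ringCatSheaf) M] (h : _root_.ClSub.KilledByIdeal i.ker M) :
    ∃ G : Z.Modules, G.IsQuasicoherent ∧ SheafOfModules.IsFiniteType (R := Z.ringCatSheaf) G ∧
      Nonempty ((Scheme.Modules.pushforward i).obj G ≅ M) := by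
  let G := (Scheme.Modules.pullback i).obj M
  haveI := isIso_unit i M h
  haveI hq : G.IsQuasicoherent := QCoh.Pullback.isQCoh_pullback i M
  refine ⟨G, hq, CohBasics.Affine.isFiniteType_of_finite_sections fun z => ?_,
    ⟨(asIso ((Scheme.Modules.pullbackPushforwardAdjunction i).unit.app M)).symm⟩⟩
  obtain ⟨U, hU, hx, -⟩ := exists_isAffineOpen_mem_and_subset (show i z ∈ (⊤ : X.Opens) from trivial)
  refine ⟨i ⁻¹ᵁ U, hU.preimage i, hx, ?_⟩
  let η : M ⟶ (Scheme.Modules.pushforward i).obj G :=
    (Scheme.Modules.pullbackPushforwardAdjunction i).unit.app M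
  haveI : IsIso η := isIso_unit i M h
  obtain ⟨S, hS⟩ := (CohBasics.Affine.finite_sections (M := M) hU).fg_top
  classical
  refine ⟨⟨S.image fun t => (show Γ(G, i ⁻¹ᵁ U) from η.app U t), eq_top_iff.mpr fun v _ => ?_⟩⟩
  obtain ⟨t, rfl⟩ : ∃ t, (show Γ(G, i ⁻¹ᵁ U) from η.app U t) = v :=
    ⟨(inv η).app U v, congr($(IsIso.inv_hom_id η).app U v)⟩
  have ht : t ∈ Submodule.span Γ(X, U) (S : Set Γ(M, U)) := hS ▸ trivial
  induction ht using Submodule.span_induction with
  | mem t ht => exact Submodule.subset_span (Finset.mem_image_of_mem _ ht)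
  | zero => rw [map_zero]; exact Submodule.zero_mem _
  | add a b _ _ ha hb => rw [map_add]; exact Submodule.add_mem _ (ha trivial) (hb trivial)
  | smul r t _ ih =>
    have e : η.app U (r • t) = r • η.app U t := Scheme.Modules.Hom.app_smul η r t
    rw [e]
    exact Submodule.smul_mem _ ((i.app U).hom r) (ih trivial)

end ZarCoh.PushKilled
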