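import Groth.Agent.Lib.CohBasics.Closure
import Groth.Agent.Lib.Kaehler.LocalPres
import Groth.Prelude.Def_CohB1

/-!
Coherent modules are finitely presented.
-/

set_option linter.style.haveILetI false

universe u

open CategoryTheory AlgebraicGeometry Opposite
open Groth.Agent.Lib

namespace Groth.Agent.Lib.ZarCoh.FP

variable {X : Scheme.{u}} {R : CommRingCat.{u}} (j : Spec R ⟶ X) [IsOpenImmersion j]

/-- A coherent module has finite sections on affine charts, as modules over the chart ring. -/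
theorem finite_restrict_top (M : X.Modules) (hM : Coh.IsCoh M) :
    Module.Finite R Γ(M.restrict j, ⊤) := by
  have hU : IsAffineOpen (j ''ᵁ ⊤) := (isAffineOpen_top (Spec R)).image_of_isOpenImmersion j
  obtain ⟨S, hS⟩ := (CohBasics.Closure.finite_sections hM hU).fg_top
  classical
  refine ⟨⟨S.image fun x ↦ (show Γ(M.restrict j, ⊤) from x), eq_top_iff.2 fun x _ ↦ ?_⟩⟩
  let P : Submodule R Γ(M.restrict j, ⊤) :=
    Submodule.span R ((S.image fun x ↦ (show Γ(M.restrict j, ⊤) from x) : Finset _) : Set _)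
  let P' : Submodule Γ(X, j ''ᵁ ⊤) Γ(M, j ''ᵁ ⊤) :=
    { carrier := {y | (show Γ(M.restrict j, ⊤) from y) ∈ P}
      add_mem' := fun ha hb ↦ P.add_mem ha hb
      zero_mem' := P.zero_mem
      smul_mem' := fun a y hy ↦ by
        have h1 := P.smul_mem ((Scheme.ΓSpecIso R).hom ((j.appIso ⊤).hom a)) hy
        have h2 : ((Scheme.ΓSpecIso R).hom ((j.appIso ⊤).hom a)) •
            (show Γ(M.restrict j, ⊤) from y) = (show Γ(M.restrict j, ⊤) from a • y) := by
          rw [Scheme.Modules.smul_Spec_def, Iso.hom_inv_id_apply]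
          show (j.appIso ⊤).inv ((Spec R).presheaf.map (⊤ : (Spec R).Opens).leTop.op
            ((j.appIso ⊤).hom a)) • (show Γ(M, j ''ᵁ ⊤) from y) = a • y
          rw [show (⊤ : (Spec R).Opens).leTop.op = 𝟙 _ from rfl, CategoryTheory.Functor.map_id]
          erw [Iso.hom_inv_id_apply]
        rw [h2] at h1
        exact h1 }
  have : (show Γ(M, j ''ᵁ ⊤) from x) ∈ P' := by
    refine (Submodule.span_le.2 ?_ : Submodule.span _ (S : Set Γ(M, j ''ᵁ ⊤)) ≤ P')
      (hS.symm ▸ Submodule.mem_top)
    intro y hy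
    change (show Γ(M.restrict j, ⊤) from y) ∈ P
    exact Submodule.subset_span (Finset.mem_coe.2 (Finset.mem_image_of_mem _ hy))
  exact this

/-- On a locally Noetherian scheme, coherent modules are finitely presented. -/
theorem isFP_of_isCoh [IsLocallyNoetherian X] (M : X.Modules) (hM : Coh.IsCoh M) : CohB1.IsFP M := by
  haveI := hM.1
  refine Kaehler.LocalPres.isFP_of_cover fun x ↦ ?_
  obtain ⟨U, hU, hx, -⟩ := exists_isAffineOpen_mem_and_subset (X := X) (x := x) (U := ⊤) trivial
  haveI := IsLocallyNoetherian.component_noetherian (X := X) ⟨U, hU⟩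
  refine ⟨U, hU, hx, (modulesSpecToSheaf.obj (M.restrict hU.fromSpec)).presheaf.obj (op ⊤), ?_,
    ⟨(asIso (M.restrict hU.fromSpec).fromTildeΓ).symm⟩⟩
  haveI : Module.Finite Γ(X, U)
      ((modulesSpecToSheaf.obj (M.restrict hU.fromSpec)).presheaf.obj (op ⊤)) :=
    finite_restrict_top hU.fromSpec M hM
  exact Module.finitePresentation_of_finite Γ(X, U) _

end Groth.Agent.Lib.ZarCoh.FP
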