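import Groth.Agent.Lib.ZarCoh.Push

/-!
The comparison `H^n(Y, f_* F) → H^n(X, F)` on whole spaces.
-/

set_option linter.style.haveILetI false

universe u

open CategoryTheory TopologicalSpace CategoryTheory.Abelian
open Groth.Agent.Lib.ZarCoh Groth.Agent.Lib.ZarCoh.Basic

namespace Groth.Agent.Lib.ZarCoh.PushH

variable {X Y : TopCat.{u}} (f : X ⟶ Y)

/-- `pushMap` on the whole space, seen with values in `Ext (Zs ⊤)`. -/
noncomputable def pushTop (F : CohTop.Ab X) (n : ℕ) :
    Ext.{u} (Zs.obj (⊤ : Opens Y)) ((CohTop.push f).obj F) n →+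
      Ext.{u} (Zs.obj (⊤ : Opens X)) F n :=
  Compare.pushMap f ⊤ n F

/-- The comparison map on global cohomology. -/
noncomputable def pushH (F : CohTop.Ab X) (n : ℕ) :
    CohTop.H ((CohTop.push f).obj F) n →+ CohTop.H F n :=
  (Compare.hTop F n).symm.toAddMonoidHom.comp
    ((pushTop f F n).comp (Compare.hTop ((CohTop.push f).obj F) n).toAddMonoidHom)

lemma hTop_pushH (F : CohTop.Ab X) (n : ℕ) (x : CohTop.H ((CohTop.push f).obj F) n) :
    Compare.hTop F n (pushH f F n x) =
      pushTop f F n (Compare.hTop ((CohTop.push f).obj F) n x) :=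
  (Compare.hTop F n).apply_symm_apply _

lemma pushTop_natural {F G : CohTop.Ab X} (φ : F ⟶ G) (n : ℕ)
    (e : Ext.{u} (Zs.obj (⊤ : Opens Y)) ((CohTop.push f).obj F) n) :
    pushTop f G n (e.comp (Ext.mk₀ ((CohTop.push f).map φ)) (add_zero n)) =
      (pushTop f F n e).comp (Ext.mk₀ φ) (add_zero n) :=
  Compare.pushMap_natural f ⊤ n φ e

lemma pushH_natural {F G : CohTop.Ab X} (φ : F ⟶ G) (n : ℕ)
    (x : CohTop.H ((CohTop.push f).obj F) n) :
    pushH f G n (Sheaf.H.map ((CohTop.push f).map φ) n x) = Sheaf.H.map φ n (pushH f F n x) := by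
  apply (Compare.hTop G n).injective
  rw [hTop_pushH, Sheaf.H.map_apply, Sheaf.H.map_apply, Compare.hTop_comp, Compare.hTop_comp,
    hTop_pushH, pushTop_natural]

lemma pushH_bijective_of (F : CohTop.Ab X) (n : ℕ)
    (h : Function.Bijective (Compare.pushMap f ⊤ n F)) : Function.Bijective (pushH f F n) :=
  (Compare.hTop F n).symm.bijective.comp
    (Function.Bijective.comp (g := pushTop f F n) h
      (Compare.hTop ((CohTop.push f).obj F) n).bijective)

/-- `H^n(Y, f_*F) → H^n(X, F)` is bijective if `F` is acyclic over a basis. -/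
theorem pushH_bijective {B : Set (Opens Y)} (hB : Opens.IsBasis B) (F : CohTop.Ab X)
    (h : ∀ W ∈ B, ∀ q, Subsingleton (CohTop.HU F (q + 1) ((Opens.map f).obj W))) (n : ℕ) :
    Function.Bijective (pushH f F n) :=
  pushH_bijective_of f F n (Push.pushMap_bijective ⊤ hB F h n)

/-- `H^n(Y, f_*F) ≃ H^n(X, F)` if `F` is acyclic over a basis. -/
noncomputable def pushEquiv {B : Set (Opens Y)} (hB : Opens.IsBasis B) (F : CohTop.Ab X)
    (h : ∀ W ∈ B, ∀ q, Subsingleton (CohTop.HU F (q + 1) ((Opens.map f).obj W))) (n : ℕ) :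
    CohTop.H ((CohTop.push f).obj F) n ≃+ CohTop.H F n :=
  AddEquiv.ofBijective (pushH f F n) (pushH_bijective f hB F h n)

end Groth.Agent.Lib.ZarCoh.PushH
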