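import Groth.Agent.Lib.ZarCoh.Affine
import Groth.Agent.Lib.ZarCoh.PushH
import Groth.Agent.Lib.ZarCoh.RpushVanish
import Mathlib.AlgebraicGeometry.Morphisms.Affine

/-!
Cohomology of quasi-coherent modules along affine morphisms and open immersions.
-/

set_option linter.style.haveILetI false

universe u

open CategoryTheory CategoryTheory.Limits TopologicalSpace Opposite AlgebraicGeometry
open CategoryTheory.Abelian
open Groth.Agent.Lib.ZarCoh Groth.Agent.Lib.ZarCoh.Basic

namespace Groth.Agent.Lib.ZarCoh.Morph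

variable {X S : Scheme.{u}} (f : X ⟶ S)

/-- Affine opens form a basis. -/
lemma affineBasis (S : Scheme.{u}) : Opens.IsBasis {W : Opens S | IsAffineOpen (W : S.Opens)} :=
  Scheme.isBasis_affineOpens S

/-- Quasi-coherent modules are acyclic on preimages of affines under affine morphisms. -/
lemma van_affine [IsAffineHom f] (M : X.Modules) [M.IsQuasicoherent] (W : S.Opens)
    (hW : IsAffineOpen W) (q : ℕ) :
    Subsingleton (CohTop.HU (Coh.toAb M) (q + 1) ((Opens.map f.base).obj W)) :=
  Affine.HU_subsingleton M (hW.preimage f) q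

/-- Relative affine vanishing. -/
theorem isZero_RpushAb [IsAffineHom f] (M : X.Modules) [M.IsQuasicoherent] (i : ℕ) :
    IsZero ((Coh.RpushAb f (i + 1)).obj (Coh.toAb M)) :=
  RpushVanish.isZero_RpushAb f.base (affineBasis S) i fun W hW ↦ van_affine f M W hW i

/-- `H^n(V, f_* M) = H^n(f⁻¹V, M)` for an affine morphism. -/
theorem pushMap_bijective [IsAffineHom f] (M : X.Modules) [M.IsQuasicoherent] (V : S.Opens)
    (n : ℕ) : Function.Bijective (Compare.pushMap f.base V n (Coh.toAb M)) :=
  Push.pushMap_bijective V (affineBasis S) _ (fun W hW q ↦ van_affine f M W hW q) n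

/-- Multiplication by a function downstairs is the direct image of multiplication upstairs. -/
lemma push_smulAb (M : X.Modules) (r : Coh.Γtop S) (r' : Coh.Γtop X) (hr : r' = f.appTop r) :
    Coh.smulAb ((Coh.push f).obj M) r = (CohTop.push f.base).map (Coh.smulAb M r') := by
  subst hr
  ext U m
  refine congrArg (fun t : Γ(X, f ⁻¹ᵁ U.unop) ↦ t • (show Γ(M, f ⁻¹ᵁ U.unop) from m)) ?_
  exact ConcreteCategory.congr_hom (f.naturality (homOfLE (le_top (a := U.unop))).op) r

/-- The comparison map is semilinear over global functions. -/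
lemma pushH_smul (M : X.Modules) (n : ℕ) (r : Coh.Γtop S) (r' : Coh.Γtop X) (hr : r' = f.appTop r)
    (x : Coh.HH S ((Coh.push f).obj M) n) :
    PushH.pushH f.base (Coh.toAb M) n (r • x : Coh.HH S ((Coh.push f).obj M) n) =
      (r' • (PushH.pushH f.base (Coh.toAb M) n x : Coh.HH X M n) : Coh.HH X M n) :=
  (congrArg (fun t : Coh.toAb ((Coh.push f).obj M) ⟶ Coh.toAb ((Coh.push f).obj M) ↦
    PushH.pushH f.base (Coh.toAb M) n (Sheaf.H.map t n x)) (push_smulAb f M r r' hr)).trans
    (PushH.pushH_natural f.base (Coh.smulAb M r') n x)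

/-- `H^n(S, f_*M) ≅ H^n(X, M)` for an affine morphism. -/
noncomputable def affineEquiv [IsAffineHom f] (M : X.Modules) [M.IsQuasicoherent] (n : ℕ) :
    Coh.HH S ((Coh.push f).obj M) n ≃+ Coh.HH X M n :=
  PushH.pushEquiv f.base (affineBasis S) (Coh.toAb M) (fun W hW q ↦ van_affine f M W hW q) n

lemma affineEquiv_smul [IsAffineHom f] (M : X.Modules) [M.IsQuasicoherent] (n : ℕ)
    (r : Coh.Γtop S) (r' : Coh.Γtop X) (hr : r' = f.appTop r)
    (x : Coh.HH S ((Coh.push f).obj M) n) :
    affineEquiv f M n (r • x) = r' • affineEquiv f M n x :=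
  pushH_smul f M n r r' hr x

section Open

variable {U : Scheme.{u}} (j : U ⟶ X) [IsOpenImmersion j]

/-- `H^n(U, M|_U) = H^n(j U, M)`. -/
noncomputable def openEquiv (M : X.Modules) (n : ℕ) :
    Coh.HH U (M.restrict j) n ≃+ CohTop.HU (Coh.toAb M) n (j ''ᵁ ⊤) :=
  (Compare.hTop ((Compare.rst j.isOpenEmbedding).obj (Coh.toAb M)) n).trans
    (Compare.restrEquiv j.isOpenEmbedding ⊤ n (Coh.toAb M)).symm

end Open

/-- `HHon X M U n = H^n(U, M)`. -/
theorem nonempty_HHon_equiv (M : X.Modules) (U : X.Opens) (n : ℕ) :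
    Nonempty (Coh.HHon X M U n ≃+ CohTop.HU (Coh.toAb M) n U) := by
  have e := openEquiv U.ι M n
  rw [Scheme.Hom.image_top_eq_opensRange, Scheme.Opens.opensRange_ι] at e
  exact ⟨e⟩

/-- Vanishing transfers to restrictions. -/
theorem HHon_subsingleton (M : X.Modules) [M.IsQuasicoherent] {U : X.Opens} (hU : IsAffineOpen U)
    (n : ℕ) : Subsingleton (Coh.HHon X M U (n + 1)) := by
  haveI := Affine.HU_subsingleton M hU n
  exact (nonempty_HHon_equiv M U (n + 1)).some.toEquiv.subsingleton

end Groth.Agent.Lib.ZarCoh.Morph
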