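import Mathlib.AlgebraicGeometry.Morphisms.QuasiSeparated

/-!
Induction principle over quasi-compact opens inside a quasi-separated open.
-/

universe u

open AlgebraicGeometry TopologicalSpace

namespace Groth.Agent.Lib.ZarCoh.Induction

variable {X : Scheme.{u}}

/-- Induction over quasi-compact opens of a quasi-separated open `T`. -/
theorem induction (T : X.Opens) (hT : IsQuasiSeparated (T : Set X)) (P : X.Opens → Prop)
    (h₁ : ∀ U : X.Opens, U ≤ T → IsAffineOpen U → P U)
    (h₂ : ∀ U V : X.Opens, U ≤ T → V ≤ T → IsCompact (U : Set X) → IsAffineOpen V → P U → P V →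
      P (U ⊓ V) → P (U ⊔ V))
    (S : X.Opens) (hST : S ≤ T) (hS : IsCompact (S : Set X)) : P S := by
  have hbot : P ⊥ := h₁ ⊥ bot_le (isAffineOpen_bot X)
  have hinner : ∀ V : X.Opens, IsAffineOpen V → V ≤ T → ∀ W : X.Opens, W ≤ V →
      IsCompact (W : Set X) → P W := by
    intro V hV hVT W hWV hW
    suffices h : ∀ (t : Finset {b : Γ(X, V) // X.basicOpen b ≤ W}) (f : Γ(X, V)),
        P (⨆ b ∈ t, X.basicOpen (f * b.1)) by
      obtain ⟨t, ht⟩ := hW.elim_finite_subcover
        (fun b : {b : Γ(X, V) // X.basicOpen b ≤ W} ↦ (X.basicOpen b.1 : Set X))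
        (fun b ↦ (X.basicOpen b.1).2) (fun x hx ↦ by
          obtain ⟨b, hb, hxb⟩ := hV.exists_basicOpen_le (⟨x, hx⟩ : W) (hWV hx)
          exact Set.mem_iUnion.2 ⟨⟨b, hb⟩, hxb⟩)
      have e : W = ⨆ b ∈ t, X.basicOpen b.1 := le_antisymm (fun x hx ↦ by
        obtain ⟨b, hbt, hxb⟩ := Set.mem_iUnion₂.1 (ht hx)
        exact Opens.mem_iSup.2 ⟨b, Opens.mem_iSup.2 ⟨hbt, hxb⟩⟩) (iSup₂_le fun b _ ↦ b.2)
      rw [e]
      simpa using h t 1
    intro t
    induction t using Finset.cons_induction with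
    | empty => intro f; simpa using hbot
    | cons a t ha ih =>
      intro f
      classical
      rw [Finset.cons_eq_insert, Finset.iSup_insert, sup_comm]
      have hle : ∀ g : Γ(X, V), X.basicOpen g ≤ T := fun g ↦ (X.basicOpen_le g).trans hVT
      refine h₂ _ _ (iSup₂_le fun b _ ↦ hle _) (hle _) ?_ (hV.basicOpen _) (ih f)
        (h₁ _ (hle _) (hV.basicOpen _)) ?_
      · simp only [Opens.coe_iSup]
        exact t.isCompact_biUnion fun b _ ↦ (hV.basicOpen _).isCompact
      · convert ih (f * a.1 * f) using 1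
        rw [iSup_inf_eq]
        refine iSup_congr fun b ↦ ?_
        rw [iSup_inf_eq]
        refine iSup_congr fun _ ↦ ?_
        rw [← Scheme.basicOpen_mul]
        congr 1
        ring
  obtain ⟨s, hs, hcov⟩ :=
    (isCompact_and_isOpen_iff_finite_and_eq_biUnion_affineOpens (U := (S : Set X))).mp ⟨hS, S.2⟩
  have hle : ∀ i ∈ s, (i.1 : X.Opens) ≤ T := fun i hi x hx ↦ hST (by
    show x ∈ (S : Set X)
    rw [hcov]
    exact Set.mem_biUnion hi hx)
  have hSeq : S = ⨆ i ∈ s, (i.1 : X.Opens) := Opens.ext (by simpa using hcov)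
  rw [hSeq]
  clear hcov hSeq
  induction s, hs using Set.Finite.induction_on with
  | empty => simpa using hbot
  | @insert a s _ hs ih =>
    rw [iSup_insert, sup_comm]
    have hsT : (⨆ i ∈ s, (i.1 : X.Opens)) ≤ T :=
      iSup₂_le fun i hi ↦ hle i (Set.mem_insert_of_mem a hi)
    have haT : (a.1 : X.Opens) ≤ T := hle a (Set.mem_insert a s)
    have hc : IsCompact ((⨆ i ∈ s, (i.1 : X.Opens) : X.Opens) : Set X) := by
      simp only [Opens.coe_iSup]
      exact hs.isCompact_biUnion fun i _ ↦ i.2.isCompact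
    refine h₂ _ _ hsT haT hc a.2 (ih fun i hi ↦ hle i (Set.mem_insert_of_mem a hi)) (h₁ _ haT a.2) ?_
    exact hinner a.1 a.2 haT _ inf_le_right
      (hT _ _ hsT (Opens.isOpen _) hc haT (Opens.isOpen _) a.2.isCompact)

end Groth.Agent.Lib.ZarCoh.Induction
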