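import Groth.Agent.Lib.ZarCoh.Morph
import Groth.Agent.Lib.ZarCoh.Induction
import Groth.Agent.Lib.Cech.MV
import Mathlib.AlgebraicGeometry.Morphisms.QuasiSeparated

/-!
Uniform vanishing of quasi-coherent cohomology in high degrees.
-/

set_option linter.style.haveILetI false

universe u

open CategoryTheory CategoryTheory.Limits AlgebraicGeometry TopologicalSpace Opposite
open Groth.Agent.Lib.ZarCoh

namespace Groth.Agent.Lib.ZarCoh.Bounded

variable {X : Scheme.{u}}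

/-- Intersections with a family of opens `G` preserving affineness: uniform vanishing. -/
theorem exists_bound (T : X.Opens) (hT : IsQuasiSeparated (T : Set X)) (𝒢 : Set X.Opens)
    (h𝒢 : ∀ U : X.Opens, U ≤ T → IsAffineOpen U → ∀ G ∈ 𝒢, IsAffineOpen (U ⊓ G))
    (S : X.Opens) (hST : S ≤ T) (hS : IsCompact (S : Set X)) :
    ∃ d : ℕ, 0 < d ∧ ∀ (M : X.Modules), M.IsQuasicoherent → ∀ G ∈ 𝒢, ∀ p, d ≤ p →
      Subsingleton (CohTop.HU (Coh.toAb M) p (S ⊓ G)) := by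
  refine Induction.induction T hT (fun S ↦ ∃ d : ℕ, 0 < d ∧ ∀ (M : X.Modules),
    M.IsQuasicoherent → ∀ G ∈ 𝒢, ∀ p, d ≤ p → Subsingleton (CohTop.HU (Coh.toAb M) p (S ⊓ G)))
    ?_ ?_ S hST hS
  · intro U hUT hU
    refine ⟨1, one_pos, fun M hM G hG p hp ↦ ?_⟩
    obtain ⟨q, rfl⟩ : ∃ q, p = q + 1 := ⟨p - 1, by omega⟩
    exact Affine.HU_subsingleton M (h𝒢 U hUT hU G hG) q
  · rintro U V _ _ _ _ ⟨a, ha, hU⟩ ⟨b, hb, hV⟩ ⟨c, hc, hUV⟩
    refine ⟨max a (max b (c + 1)), by omega, fun M hM G hG p hp ↦ ?_⟩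
    obtain ⟨q, rfl⟩ : ∃ q, p = q + 1 := ⟨p - 1, by omega⟩
    haveI := hU M hM G hG (q + 1) (by omega)
    haveI := hV M hM G hG (q + 1) (by omega)
    haveI : Subsingleton (CohTop.HU (Coh.toAb M) q ((U ⊓ G) ⊓ (V ⊓ G))) := by
      rw [show (U ⊓ G) ⊓ (V ⊓ G) = (U ⊓ V) ⊓ G from inf_inf_distrib_right .. |>.symm]
      exact hUV M hM G hG q (by omega)
    rw [inf_sup_right]
    exact Groth.Agent.Lib.Cech.MV.subsingleton_HU_sup (F := Coh.toAb M) (U := U ⊓ G) (V := V ⊓ G) q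

/-- `U ∩ f⁻¹W` is affine for affines `U ⊆ f⁻¹V`, `W ⊆ V`. -/
lemma inf_preimage {S : Scheme.{u}} (f : X ⟶ S) {U : X.Opens} {V W : S.Opens}
    (hU : IsAffineOpen U) (hV : IsAffineOpen V) (hW : IsAffineOpen W) (hWV : W ≤ V)
    (hUV : U ≤ f ⁻¹ᵁ V) : IsAffineOpen (U ⊓ f ⁻¹ᵁ W) := by
  haveI : IsAffine U.toScheme := hU
  haveI : IsAffine V.toScheme := hV
  haveI : IsAffineHom (f.resLE V U hUV) := inferInstance
  have hW' : IsAffineOpen (V.ι ⁻¹ᵁ W) :=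
    hW.preimage_of_isOpenImmersion V.ι (by rwa [Scheme.Opens.opensRange_ι])
  have := (hW'.preimage (f.resLE V U hUV)).image_of_isOpenImmersion U.ι
  rwa [← Scheme.Hom.comp_preimage, Scheme.Hom.resLE_comp_ι, Scheme.Hom.comp_preimage,
    Scheme.Hom.image_preimage_eq_opensRange_inf, Scheme.Opens.opensRange_ι] at this

/-- On a qcqs scheme cohomology of quasi-coherent modules vanishes in high degrees. -/
theorem exists_bound_HH (X : Scheme.{u}) [CompactSpace X] [QuasiSeparatedSpace X] :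
    ∃ d : ℕ, ∀ (M : X.Modules), M.IsQuasicoherent → ∀ p : ℕ, d ≤ p →
      Subsingleton (Coh.HH X M p) := by
  obtain ⟨d, -, hd⟩ := exists_bound (⊤ : X.Opens)
    (isQuasiSeparated_univ : IsQuasiSeparated (Set.univ : Set X)) {⊤}
    (fun U _ hU G hG ↦ by rw [Set.mem_singleton_iff.1 hG, inf_top_eq]; exact hU) ⊤ le_rfl
    CompactSpace.isCompact_univ
  refine ⟨d, fun M hM p hp ↦ ?_⟩
  have := hd M hM ⊤ rfl p hp
  rw [inf_top_eq] at this
  haveI : Subsingleton (Abelian.Ext.{u} (Basic.Zs.obj (⊤ : Opens X)) (Coh.toAb M) p) := this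
  exact (Compare.hTop (Coh.toAb M) p).toEquiv.subsingleton

/-- Higher direct images of quasi-coherent modules vanish uniformly in high degrees. -/
theorem exists_bound_RpushAb {S : Scheme.{u}} (f : X ⟶ S) [QuasiCompact f] [QuasiSeparated f]
    [CompactSpace S] :
    ∃ n : ℕ, ∀ (M : X.Modules), M.IsQuasicoherent → ∀ p : ℕ, n ≤ p →
      IsZero ((Coh.RpushAb f p).obj (Coh.toAb M)) := by
  obtain ⟨s, hs, hcov⟩ := (isCompact_and_isOpen_iff_finite_and_eq_biUnion_affineOpens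
    (U := (Set.univ : Set S))).mp ⟨CompactSpace.isCompact_univ, isOpen_univ⟩
  have hb : ∀ V : S.affineOpens, ∃ d : ℕ, 0 < d ∧ ∀ (M : X.Modules), M.IsQuasicoherent →
      ∀ W : S.Opens, IsAffineOpen W → W ≤ V.1 → ∀ p, d ≤ p →
        Subsingleton (CohTop.HU (Coh.toAb M) p (f ⁻¹ᵁ W)) := by
    intro V
    obtain ⟨d, hd0, hd⟩ := exists_bound (f ⁻¹ᵁ V.1) (f.isQuasiSeparated_preimage V.2.isQuasiSeparated)
      {G | ∃ W : S.Opens, IsAffineOpen W ∧ W ≤ V.1 ∧ G = f ⁻¹ᵁ W} (by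
        rintro U hUV hU _ ⟨W, hW, hWV, rfl⟩
        exact inf_preimage f hU V.2 hW hWV hUV)
      (f ⁻¹ᵁ V.1) le_rfl (f.isCompact_preimage V.2.isCompact)
    refine ⟨d, hd0, fun M hM W hW hWV p hp ↦ ?_⟩
    have := hd M hM _ ⟨W, hW, hWV, rfl⟩ p hp
    rwa [inf_eq_right.2 (f.preimage_mono hWV)] at this
  choose d hd0 hd using hb
  refine ⟨hs.toFinset.sup d + 1, fun M hM p hp ↦ ?_⟩
  obtain ⟨q, rfl⟩ : ∃ q, p = q + 1 := ⟨p - 1, by omega⟩
  refine RpushVanish.isZero_RpushAb f.base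
    (B := {W : Opens S | IsAffineOpen (W : S.Opens) ∧ ∃ V ∈ s, W ≤ V.1}) ?_ q ?_
  · refine Opens.isBasis_iff_nbhd.2 fun {U x} hx ↦ ?_
    obtain ⟨V, hV, hxV⟩ : ∃ V ∈ s, x ∈ (V.1 : Set S) := by
      simpa using hcov.le (Set.mem_univ x)
    obtain ⟨W, hW, hxW, hWU⟩ := exists_isAffineOpen_mem_and_subset (X := S) (x := x)
      (U := U ⊓ V.1) ⟨hx, hxV⟩
    exact ⟨W, ⟨hW, V, hV, hWU.trans inf_le_right⟩, hxW, hWU.trans inf_le_left⟩
  · rintro W ⟨hW, V, hV, hWV⟩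
    exact hd V M hM W hW hWV (q + 1) ((Finset.le_sup (hs.mem_toFinset.2 hV)).trans (by omega))

end Groth.Agent.Lib.ZarCoh.Bounded
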