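import Groth.Prelude.Def_ClSub2
import Mathlib.AlgebraicGeometry.Morphisms.Immersion
import Mathlib.AlgebraicGeometry.Morphisms.UniversallyClosed
import Mathlib.AlgebraicGeometry.PullbackCarrier

/-!
# Closed subsets proper over a base

Properness descends along finite jointly surjective families of universally closed morphisms,
`IsProperOver` does not depend on the closed subscheme structure, and its permanence properties.
-/

universe u

open CategoryTheory CategoryTheory.Limits AlgebraicGeometry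

namespace ZarCoh.ProperOver

variable {X Y S : Scheme.{u}}

/-- Universal closedness descends along finite jointly surjective families. -/
theorem universallyClosed_of_family {ι : Type*} [Finite ι] (T : ι → Scheme.{u})
    (h : ∀ i, T i ⟶ Y) (g : Y ⟶ S) (hcov : ∀ y : Y, ∃ i, y ∈ Set.range ⇑(h i))
    [∀ i, UniversallyClosed (h i ≫ g)] : UniversallyClosed g := by
  constructor
  intro X' Y' i₁ i₂ f' H
  show IsClosedMap ⇑f'
  intro C hC
  have hf : ∀ i, IsClosedMap (⇑(pullback.fst i₁ (h i) ≫ f')) := fun i =>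
    UniversallyClosed.universally_isClosedMap (f := h i ≫ g) _ _ _
      ((IsPullback.of_hasPullback i₁ (h i)).paste_horiz H)
  have e : ⇑f' '' C = ⋃ i, ⇑(pullback.fst i₁ (h i) ≫ f') '' (⇑(pullback.fst i₁ (h i)) ⁻¹' C) := by
    ext y
    simp only [Set.mem_iUnion, Set.mem_image, Set.mem_preimage, Scheme.Hom.comp_apply]
    constructor
    · rintro ⟨x, hx, rfl⟩
      obtain ⟨i, hi⟩ := hcov (i₁ x)
      obtain ⟨z, hz⟩ : x ∈ Set.range ⇑(pullback.fst i₁ (h i)) := by
        rw [Scheme.Pullback.range_fst]; exact hi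
      exact ⟨i, z, hz ▸ hx, by rw [hz]⟩
    · rintro ⟨i, z, hz, rfl⟩
      exact ⟨_, hz, rfl⟩
  rw [e]
  exact isClosed_iUnion_of_finite fun i =>
    hf i _ (hC.preimage (Scheme.Hom.continuous _))

/-- Separatedness descends along finite jointly surjective families of universally closed
morphisms. -/
theorem isSeparated_of_family {ι : Type*} [Finite ι] (T : ι → Scheme.{u})
    (h : ∀ i, T i ⟶ Y) (g : Y ⟶ S) (hcov : ∀ y : Y, ∃ i, y ∈ Set.range ⇑(h i))
    [∀ i, UniversallyClosed (h i)] [∀ i, IsSeparated (h i ≫ g)] : IsSeparated g := by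
  constructor
  let m : ∀ i, pullback (h i ≫ g) (h i ≫ g) ⟶ pullback g g := fun i =>
    pullback.map (h i ≫ g) (h i ≫ g) g g (h i) (h i) (𝟙 S) (by simp) (by simp)
  have hm : ∀ i, UniversallyClosed (m i) := fun i =>
    MorphismProperty.pullbackMap (P := @UniversallyClosed) inferInstance inferInstance rfl rfl
  have hc : ∀ i, h i ≫ pullback.diagonal g = pullback.diagonal (h i ≫ g) ≫ m i := by
    intro i
    apply pullback.hom_ext
    · rw [Category.assoc, pullback.diagonal_fst, Category.comp_id, Category.assoc,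
        pullback.lift_fst, pullback.diagonal_fst_assoc]
    · rw [Category.assoc, pullback.diagonal_snd, Category.comp_id, Category.assoc,
        pullback.lift_snd, pullback.diagonal_snd_assoc]
  refine IsClosedImmersion.of_isPreimmersion _ ?_
  have e : Set.range ⇑(pullback.diagonal g) =
      ⋃ i, ⇑(m i) '' Set.range ⇑(pullback.diagonal (h i ≫ g)) := by
    ext y
    simp only [Set.mem_iUnion, Set.mem_image, Set.mem_range, exists_exists_eq_and]
    constructor
    · rintro ⟨x, rfl⟩
      obtain ⟨i, z, rfl⟩ := hcov x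
      exact ⟨i, z, by rw [← Scheme.Hom.comp_apply, ← hc i, Scheme.Hom.comp_apply]⟩
    · rintro ⟨i, z, rfl⟩
      exact ⟨h i z, by rw [← Scheme.Hom.comp_apply, hc i, Scheme.Hom.comp_apply]⟩
  rw [e]
  exact isClosed_iUnion_of_finite fun i =>
    have := hm i
    (m i).isClosedMap _ (pullback.diagonal (h i ≫ g)).isClosedEmbedding.isClosed_range

/-- Properness descends along finite jointly surjective families of universally closed morphisms. -/
theorem isProper_of_family {ι : Type*} [Finite ι] (T : ι → Scheme.{u})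
    (h : ∀ i, T i ⟶ Y) (g : Y ⟶ S) (hcov : ∀ y : Y, ∃ i, y ∈ Set.range ⇑(h i))
    [∀ i, UniversallyClosed (h i)] [∀ i, IsProper (h i ≫ g)] [LocallyOfFiniteType g] :
    IsProper g :=
  have := universallyClosed_of_family T h g hcov
  have := isSeparated_of_family T h g hcov
  { }

/-- The reduced closed subscheme with underlying set `Z`. -/
noncomputable abbrev red (Z : TopologicalSpace.Closeds X) : X.IdealSheafData :=
  Scheme.IdealSheafData.vanishingIdeal Z

theorem range_red (Z : TopologicalSpace.Closeds X) : Set.range ⇑(red Z).subschemeι = Z := by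
  rw [Scheme.IdealSheafData.range_subschemeι, Scheme.IdealSheafData.coe_support_vanishingIdeal]

/-- The reduced subscheme maps into every closed subscheme with bigger underlying set. -/
theorem exists_lift (Z : TopologicalSpace.Closeds X) {T : Scheme.{u}} (i : T ⟶ X)
    [IsClosedImmersion i] (hZ : (Z : Set X) ⊆ Set.range ⇑i) :
    ∃ j : (red Z).subscheme ⟶ T, j ≫ i = (red Z).subschemeι ∧ IsClosedImmersion j := by
  have hle : i.ker ≤ (red Z).subschemeι.ker := by
    rw [Scheme.IdealSheafData.ker_subschemeι,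
      ← Scheme.IdealSheafData.le_support_iff_le_vanishingIdeal]
    intro x hx
    show x ∈ (i.ker.support : Set X)
    rw [Scheme.Hom.support_ker]
    exact subset_closure (hZ hx)
  refine ⟨IsClosedImmersion.lift i _ hle, IsClosedImmersion.lift_fac _ _ _, ?_⟩
  have : IsClosedImmersion (IsClosedImmersion.lift i _ hle ≫ i) := by
    rw [IsClosedImmersion.lift_fac]; infer_instance
  exact IsClosedImmersion.of_comp_isClosedImmersion _ i

theorem isProper_comp_iff (f : X ⟶ S) [LocallyOfFiniteType f] {T : Scheme.{u}} (i : T ⟶ X)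
    [IsClosedImmersion i] {Z : Set X} (hZ : Set.range ⇑i = Z) :
    IsProper (i ≫ f) ↔ ClSub.IsProperOver f Z := by
  have hc : IsClosed Z := hZ ▸ i.isClosedEmbedding.isClosed_range
  obtain ⟨j, hj, hji⟩ := exists_lift ⟨Z, hc⟩ i (by rw [hZ]; exact le_rfl)
  constructor
  · intro hp
    refine ⟨hc, ?_⟩
    show IsProper ((red ⟨Z, hc⟩).subschemeι ≫ f)
    rw [← hj, Category.assoc]
    infer_instance
  · rintro ⟨_, hp⟩
    have : IsProper (j ≫ (i ≫ f)) := by rw [← Category.assoc, hj]; exact hp
    refine isProper_of_family (ι := Unit) (fun _ => (red ⟨Z, hc⟩).subscheme) (fun _ => j)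
      (i ≫ f) fun t => ⟨(), ?_⟩
    have ht : i t ∈ Set.range ⇑(red ⟨Z, hc⟩).subschemeι := by
      rw [range_red]; exact hZ ▸ Set.mem_range_self t
    obtain ⟨z, hz⟩ := ht
    exact ⟨z, i.isClosedEmbedding.injective (by rw [← hz, ← hj, Scheme.Hom.comp_apply])⟩

/-- A closed subset of a finite union of proper subsets is proper. -/
theorem isProperOver_of_subset_iUnion (f : X ⟶ S) [LocallyOfFiniteType f] {ι : Type*} [Finite ι]
    (Z : ι → Set X) (hZ : ∀ i, ClSub.IsProperOver f (Z i)) {W : Set X} (hW : IsClosed W)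
    (h : W ⊆ ⋃ i, Z i) : ClSub.IsProperOver f W := by
  refine ⟨hW, ?_⟩
  choose hc hp using hZ
  let V : ι → TopologicalSpace.Closeds X := fun i => ⟨Z i ∩ W, (hc i).inter hW⟩
  have hV : ∀ i, IsProper ((red (V i)).subschemeι ≫ f) := by
    intro i
    obtain ⟨j, hj, _⟩ := exists_lift (V i) (red ⟨Z i, hc i⟩).subschemeι
      (by rw [range_red]; exact Set.inter_subset_left)
    have := hp i
    rw [← hj, Category.assoc]
    infer_instance
  have hl : ∀ i, ∃ j : (red (V i)).subscheme ⟶ (red ⟨W, hW⟩).subscheme,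
      j ≫ (red ⟨W, hW⟩).subschemeι = (red (V i)).subschemeι ∧ IsClosedImmersion j := fun i =>
    exists_lift (V i) _ (by rw [range_red]; exact Set.inter_subset_right)
  choose j hj hji using hl
  have : ∀ i, IsProper (j i ≫ (red ⟨W, hW⟩).subschemeι ≫ f) := fun i => by
    rw [← Category.assoc, hj i]; exact hV i
  have : ∀ i, UniversallyClosed (j i) := fun i => have := hji i; inferInstance
  refine isProper_of_family _ j ((red ⟨W, hW⟩).subschemeι ≫ f) fun y => ?_
  have hy : (red ⟨W, hW⟩).subschemeι y ∈ W := by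
    have := Set.mem_range_self (f := ⇑(red ⟨W, hW⟩).subschemeι) y
    rwa [range_red] at this
  obtain ⟨i, hi⟩ := Set.mem_iUnion.mp (h hy)
  obtain ⟨z, hz⟩ : (red ⟨W, hW⟩).subschemeι y ∈ Set.range ⇑(red (V i)).subschemeι := by
    rw [range_red]; exact ⟨hi, hy⟩
  exact ⟨i, z, (red ⟨W, hW⟩).subschemeι.isClosedEmbedding.injective
    (by rw [← hz, ← hj i, Scheme.Hom.comp_apply])⟩

theorem isProperOver_of_subset (f : X ⟶ S) [LocallyOfFiniteType f]
    {Z W : Set X} (hZ : ClSub.IsProperOver f Z) (hW : IsClosed W)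
    (h : W ⊆ Z) : ClSub.IsProperOver f W :=
  isProperOver_of_subset_iUnion f (fun _ : Unit => Z) (fun _ => hZ) hW
    (h.trans (Set.subset_iUnion (fun _ : Unit => Z) ()))

/-- Images. -/
theorem isProperOver_image (p : X ⟶ S) (q : Y ⟶ S) [LocallyOfFiniteType q] (f : X ⟶ Y)
    (w : f ≫ q = p) {Z : Set X} (hZ : ClSub.IsProperOver p Z)
    (hf : ∀ {T : Scheme.{u}} (i : T ⟶ X) [IsClosedImmersion i] [IsProper (i ≫ p)],
      UniversallyClosed (i ≫ f)) :
    ClSub.IsProperOver q (⇑f '' Z) := by
  obtain ⟨hc, hp⟩ := hZ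
  let i := (red ⟨Z, hc⟩).subschemeι
  have : IsProper (i ≫ p) := hp
  have := hf i
  have hr : Set.range ⇑(i ≫ f) = ⇑f '' Z := by
    ext y
    simp only [Set.mem_range, Set.mem_image, Scheme.Hom.comp_apply]
    constructor
    · rintro ⟨z, rfl⟩
      exact ⟨i z, by have := Set.mem_range_self (f := ⇑i) z; rwa [range_red] at this, rfl⟩
    · rintro ⟨x, hx, rfl⟩
      obtain ⟨z, hz⟩ : x ∈ Set.range ⇑i := by rw [range_red]; exact hx
      exact ⟨z, by rw [hz]⟩
  rw [← isProper_comp_iff q (i ≫ f).imageι (Z := ⇑f '' Z) ?_]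
  · have : IsProper ((i ≫ f).toImage ≫ (i ≫ f).imageι ≫ q) := by
      rw [← Category.assoc, Scheme.Hom.toImage_imageι, Category.assoc, w]; exact hp
    refine isProper_of_family (ι := Unit) (fun _ => (red ⟨Z, hc⟩).subscheme)
      (fun _ => (i ≫ f).toImage) ((i ≫ f).imageι ≫ q) fun y => ⟨(), ?_⟩
    have hy : (i ≫ f).imageι y ∈ Set.range ⇑(i ≫ f) := by
      have := Set.mem_range_self (f := ⇑(i ≫ f).imageι) y
      rwa [Scheme.Hom.imageι, Scheme.IdealSheafData.range_subschemeι, Scheme.Hom.support_ker,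
        (i ≫ f).isClosedMap.isClosed_range.closure_eq] at this
    obtain ⟨z, hz⟩ := hy
    exact ⟨z, (i ≫ f).imageι.isClosedEmbedding.injective
      (by rw [← Scheme.Hom.comp_apply, Scheme.Hom.toImage_imageι, hz])⟩
  · rw [Scheme.Hom.imageι, Scheme.IdealSheafData.range_subschemeι, Scheme.Hom.support_ker,
      (i ≫ f).isClosedMap.isClosed_range.closure_eq, hr]

/-- Preimages along proper maps and base changes. -/
theorem isProperOver_preimage {X' S' : Scheme.{u}} (f : X ⟶ S) [LocallyOfFiniteType f]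
    (g' : X' ⟶ X) (f' : X' ⟶ S') [LocallyOfFiniteType f'] {Z : Set X}
    (hZ : ClSub.IsProperOver f Z)
    (h : ∀ {T : Scheme.{u}} (i : T ⟶ X) [IsProper (i ≫ f)],
      IsProper (pullback.fst g' i ≫ f')) :
    ClSub.IsProperOver f' (⇑g' ⁻¹' Z) := by
  obtain ⟨hc, hp⟩ := hZ
  have : IsProper ((red ⟨Z, hc⟩).subschemeι ≫ f) := hp
  rw [← isProper_comp_iff f' (pullback.fst g' (red ⟨Z, hc⟩).subschemeι) (Z := ⇑g' ⁻¹' Z)]
  · exact h _
  · rw [Scheme.Pullback.range_fst, range_red]; rfl

end ZarCoh.ProperOver
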