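import Groth.Agent.Lib.CohBasics.Affine
import Groth.Agent.Lib.Modules.Support
import Groth.Agent.Lib.StalkLoc.Basic
import Groth.Prelude.Def_CohB1
import Mathlib.AlgebraicGeometry.IdealSheaf.Basic

/-!
# The annihilator ideal sheaf of a quasi-coherent module of finite type
-/

set_option autoImplicit false
universe u

open CategoryTheory Limits AlgebraicGeometry Opposite TopologicalSpace

namespace ZarCoh.AnnIdeal

open Groth.Agent.Lib Groth.Agent.Lib.QCoh.Localizing

variable {X : Scheme.{u}} (M : X.Modules) [M.IsQuasicoherent]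
  [SheafOfModules.IsFiniteType (R := X.ringCatSheaf) M]

theorem map_annihilator (U : X.affineOpens) (f : Γ(X, U.1)) :
    (Module.annihilator Γ(X, U.1) Γ(M, U.1)).map
        (X.presheaf.map (homOfLE <| X.basicOpen_le f).op).hom =
      Module.annihilator Γ(X, X.basicOpen f) Γ(M, X.basicOpen f) := by
  have hL := localizes_of_isAffineOpen M U.2 f
  have hfu : IsUnit (resR (X.basicOpen_le f) f) :=
    RingedSpace.isUnit_res_basicOpen (X := X.toLocallyRingedSpace.toRingedSpace) f
  refine le_antisymm (Ideal.map_le_iff_le_comap.mpr fun a ha => ?_) fun b hb => ?_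
  · rw [Ideal.mem_comap, Module.mem_annihilator]
    intro s
    obtain ⟨n, t, ht⟩ := hL.ext' s
    refine (hfu.pow n).smul_eq_zero.mp ?_
    change resR (X.basicOpen_le f) f ^ n • (resR (X.basicOpen_le f) a • s) = 0
    rw [smul_comm, ← ht, ← res_smul, Module.mem_annihilator.mp ha t, map_zero]
  · letI := (X.presheaf.map (homOfLE <| X.basicOpen_le f).op).hom.toAlgebra
    haveI := U.2.isLocalization_basicOpen f
    obtain ⟨⟨c, m⟩, hcm⟩ := IsLocalization.surj (Submonoid.powers f) b
    obtain ⟨S, hS⟩ := (CohBasics.Affine.finite_sections (M := M) U.2).fg_top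
    have hk : ∀ t : Γ(M, U.1), ∃ k : ℕ, f ^ k • (c • t) = 0 := fun t => by
      refine hL.sep _ ?_
      rw [res_smul]
      have e : resR (X.basicOpen_le f) c = b * resR (X.basicOpen_le f) m.1 := hcm.symm
      rw [e, mul_comm, mul_smul, Module.mem_annihilator.mp hb, smul_zero]
    choose k hk using hk
    classical
    have hK : f ^ (∑ t ∈ S, k t) * c ∈ Module.annihilator Γ(X, U.1) Γ(M, U.1) := by
      rw [← Submodule.annihilator_top, ← hS, Submodule.mem_annihilator_span]
      rintro ⟨t, ht⟩
      obtain ⟨j, hj⟩ := Nat.exists_eq_add_of_le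
        (Finset.single_le_sum (f := k) (fun _ _ => Nat.zero_le _) ht)
      rw [mul_smul, hj, add_comm, pow_add, mul_smul, hk t, smul_zero]
    have hu : IsUnit (resR (X.basicOpen_le f) (m.1) * resR (X.basicOpen_le f) f ^ (∑ t ∈ S, k t)) :=
      (IsLocalization.map_units (M := Submonoid.powers f) Γ(X, X.basicOpen f) m).mul (hfu.pow _)
    refine (Ideal.mul_unit_mem_iff_mem _ hu).mp ?_
    have e : b * resR (X.basicOpen_le f) m.1 = resR (X.basicOpen_le f) c := hcm
    rw [← mul_assoc, e, ← map_pow, ← map_mul, mul_comm c]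
    exact Ideal.mem_map_of_mem _ hK

theorem smul_eq_zero_of_mem_support_nhd {U : X.Opens} (hU : IsAffineOpen U) {x : X} (hx : x ∈ U)
    (hs : x ∉ CohB1.support M) :
    ∃ a ∈ Module.annihilator Γ(X, U) Γ(M, U), x ∈ X.basicOpen a := by
  obtain ⟨S, hS⟩ := (CohBasics.Affine.finite_sections (M := M) hU).fg_top
  choose g hxg hg using fun t : Γ(M, U) => (StalkLoc.Basic.germ_eq_zero_iff (M := M) hU hx t).mp
    (Modules.Support.germ_eq_zero_of_not_mem_support hx hs t)
  classical
  refine ⟨∏ t ∈ S, g t, ?_, ?_⟩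
  · rw [← Submodule.annihilator_top, ← hS, Submodule.mem_annihilator_span]
    rintro ⟨t, ht⟩
    rw [← Finset.prod_erase_mul _ _ ht, mul_smul, hg t, smul_zero]
  · rw [X.mem_basicOpen _ x hx, map_prod, IsUnit.prod_iff]
    exact fun t _ => (X.mem_basicOpen _ x hx).mp (hxg t)

theorem subsingleton_stalk_of_mem_annihilator {U : X.Opens} (hU : IsAffineOpen U) {x : X}
    (hx : x ∈ U) {a : Γ(X, U)} (ha : a ∈ Module.annihilator Γ(X, U) Γ(M, U))
    (hax : x ∈ X.basicOpen a) : x ∉ CohB1.support M := by
  refine Modules.Support.not_mem_support_iff.mpr (subsingleton_of_forall_eq 0 fun v => ?_)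
  obtain ⟨g, t, hg, e⟩ := StalkLoc.Basic.exists_smul_eq_germ hU hx v
  have ht : M.presheaf.germ U x hx t = 0 :=
    (StalkLoc.Basic.germ_eq_zero_iff (M := M) hU hx t).mpr
      ⟨a, hax, Module.mem_annihilator.mp ha t⟩
  rw [ht] at e
  exact ((X.mem_basicOpen g x hx).mp hg).smul_eq_zero.mp e

/-- The annihilator ideal sheaf. -/
noncomputable def annIdeal : X.IdealSheafData where
  ideal U := Module.annihilator Γ(X, U.1) Γ(M, U.1)
  map_ideal_basicOpen U f := map_annihilator M U f

theorem annIdeal_ideal (U : X.affineOpens) :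
    (annIdeal M).ideal U = Module.annihilator Γ(X, U.1) Γ(M, U.1) := rfl

theorem support_annIdeal : ((annIdeal M).support : Set X) = CohB1.support M := by
  ext x
  obtain ⟨U, hU, hx, -⟩ :=
    exists_isAffineOpen_mem_and_subset (show x ∈ (⊤ : X.Opens) from trivial)
  rw [SetLike.mem_coe, Scheme.IdealSheafData.mem_support_iff_of_mem (U := ⟨U, hU⟩) hx,
    Scheme.mem_zeroLocus_iff, annIdeal_ideal]
  constructor
  · intro h
    by_contra hs
    obtain ⟨a, ha, hax⟩ := smul_eq_zero_of_mem_support_nhd M hU hx hs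
    exact h a ha hax
  · intro hs a ha hax
    exact subsingleton_stalk_of_mem_annihilator M hU hx ha hax hs

end ZarCoh.AnnIdeal
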