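import Groth.Prelude.Def_CohTop
import Mathlib.CategoryTheory.Sites.Pullback
import Mathlib.Topology.Sheaves.SheafCondition.Sites
import Mathlib.Algebra.Homology.DerivedCategory.Ext.ExactSequences
import Mathlib.CategoryTheory.Preadditive.Injective.Preserves

/-!
Abelian sheaves on a topological space: sections as morphisms out of free sheaves, injective sheaves
are flasque, flasque sheaves are acyclic, cohomology classes die locally.
-/

set_option linter.style.haveILetI false

universe u

open CategoryTheory CategoryTheory.Limits TopologicalSpace Opposite CategoryTheory.Abelian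

namespace Groth.Agent.Lib.ZarCoh.Basic

variable {X : TopCat.{u}}

/-- The free abelian sheaf on opens, as a functor. -/
noncomputable abbrev Zs : Opens X ⥤ CohTop.Ab X :=
  yoneda ⋙ (Functor.whiskeringRight _ _ _).obj AddCommGrpCat.free ⋙
    presheafToSheaf (Opens.grothendieckTopology X) AddCommGrpCat.{u}

/-- The sheafification adjunction on opens. -/
noncomputable abbrev shAdj (X : TopCat.{u}) :=
  sheafificationAdjunction (Opens.grothendieckTopology X) AddCommGrpCat.{u}

/-- The free-forgetful adjunction on presheaves. -/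
noncomputable abbrev freeAdj (X : TopCat.{u}) :=
  (AddCommGrpCat.adj.{u}).whiskerRight (Opens X)ᵒᵖ

/-- Morphisms out of the free sheaf on `U` are sections over `U`. -/
noncomputable def homEquiv (U : Opens X) (F : CohTop.Ab X) : (Zs.obj U ⟶ F) ≃ F.obj.obj (op U) :=
  ((shAdj X).homEquiv _ _).trans (((freeAdj X).homEquiv _ _).trans yonedaEquiv)

/-- The tautological section of the free sheaf on `U`. -/
noncomputable def gen (U : Opens X) : (Zs.obj U).obj.obj (op U) := homEquiv U _ (𝟙 _)

lemma homEquiv_comp {U : Opens X} {F G : CohTop.Ab X} (g : Zs.obj U ⟶ F) (φ : F ⟶ G) :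
    homEquiv U G (g ≫ φ) = φ.hom.app (op U) (homEquiv U F g) :=
  (congrArg (fun t ↦ yonedaEquiv ((freeAdj X).homEquiv _ _ t))
    ((shAdj X).homEquiv_naturality_right g φ)).trans
    ((congrArg yonedaEquiv ((freeAdj X).homEquiv_naturality_right
      ((shAdj X).homEquiv _ _ g) φ.hom)).trans (yonedaEquiv_comp _ _))

lemma homEquiv_apply {U : Opens X} {F : CohTop.Ab X} (g : Zs.obj U ⟶ F) :
    homEquiv U F g = g.hom.app (op U) (gen U) := by
  simpa [gen] using homEquiv_comp (𝟙 (Zs.obj U)) g

lemma homEquiv_res {U V : Opens X} {F : CohTop.Ab X} (i : V ⟶ U) (g : Zs.obj U ⟶ F) :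
    homEquiv V F (Zs.map i ≫ g) = F.obj.map i.op (homEquiv U F g) :=
  (congrArg (fun t ↦ yonedaEquiv ((freeAdj X).homEquiv _ _ t))
    ((shAdj X).homEquiv_naturality_left
      (((Functor.whiskeringRight (Opens X)ᵒᵖ (Type u) AddCommGrpCat.{u}).obj
        AddCommGrpCat.free).map (yoneda.map i)) g)).trans
    ((congrArg yonedaEquiv ((freeAdj X).homEquiv_naturality_left (yoneda.map i)
      ((shAdj X).homEquiv _ _ g))).trans (yonedaEquiv_naturality _ i).symm)

lemma homEquiv_add {U : Opens X} {F : CohTop.Ab X} (g h : Zs.obj U ⟶ F) :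
    homEquiv U F (g + h) = homEquiv U F g + homEquiv U F h := by
  simp only [homEquiv_apply]
  rfl

lemma map_gen {U V : Opens X} (i : V ⟶ U) :
    (Zs.map i).hom.app (op V) (gen V) = (Zs.obj U).obj.map i.op (gen U) := by
  rw [← homEquiv_apply]
  simpa [gen] using homEquiv_res i (𝟙 (Zs.obj U))

instance mono_Zs_map {U V : Opens X} (i : V ⟶ U) : Mono (Zs.map i) := by
  haveI : Mono i := ⟨fun g h _ ↦ Subsingleton.elim _ _⟩
  dsimp only [Zs, Functor.comp_map]
  haveI : Mono (((Functor.whiskeringRight (Opens X)ᵒᵖ (Type u) AddCommGrpCat.{u}).obj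
      AddCommGrpCat.free).map (yoneda.map i)) := by
    haveI : ∀ W, Mono ((((Functor.whiskeringRight (Opens X)ᵒᵖ (Type u) AddCommGrpCat.{u}).obj
      AddCommGrpCat.free).map (yoneda.map i)).app W) := fun W ↦
        inferInstanceAs (Mono (AddCommGrpCat.free.map ((yoneda.map i).app W)))
    exact NatTrans.mono_of_mono_app _
  infer_instance

/-- An injective abelian sheaf is flasque. -/
theorem isFlasque_of_injective (F : CohTop.Ab X) [Injective F] : TopCat.Sheaf.IsFlasque F where
  epi {U V} i := by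
    rw [AddCommGrpCat.epi_iff_surjective]
    intro s
    refine ⟨homEquiv _ F (Injective.factorThru ((homEquiv _ F).symm s) (Zs.map i.unop)), ?_⟩
    have := homEquiv_res i.unop (Injective.factorThru ((homEquiv _ F).symm s) (Zs.map i.unop))
    rw [Injective.comp_factorThru, Equiv.apply_symm_apply] at this
    exact this.symm

/-- Flasque sheaves as an object predicate: all restriction maps surjective. -/
lemma flasque_surjective (F : CohTop.Ab X) [TopCat.Sheaf.IsFlasque F] {U V : Opens X} (h : V ≤ U) :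
    Function.Surjective (F.obj.map (homOfLE h).op) :=
  (AddCommGrpCat.epi_iff_surjective _).1 (TopCat.Presheaf.IsFlasque.epi (F := F.obj) _)

/-- The short complex `0 → F → I → Q → 0` of an injective embedding. -/
noncomputable abbrev injSES (F : CohTop.Ab X) : ShortComplex (CohTop.Ab X) :=
  ShortComplex.mk (Injective.ι F) (cokernel.π _) (cokernel.condition _)

lemma injSES_shortExact (F : CohTop.Ab X) : (injSES F).ShortExact :=
  { exact := ShortComplex.exact_cokernel (Injective.ι F)
    mono_f := inferInstanceAs (Mono (Injective.ι F))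
    epi_g := inferInstanceAs (Epi (cokernel.π (Injective.ι F))) }

instance injSES_injective (F : CohTop.Ab X) : Injective (injSES F).X₂ :=
  inferInstanceAs (Injective (Injective.under F))

instance injSES_flasque (F : CohTop.Ab X) : TopCat.Sheaf.IsFlasque (injSES F).X₂ :=
  isFlasque_of_injective _

lemma mk₀_comp_g_comp_extClass {P : CohTop.Ab X} {S : ShortComplex (CohTop.Ab X)}
    (hS : S.ShortExact) (x : P ⟶ S.X₂) :
    (Ext.mk₀ (x ≫ S.g)).comp hS.extClass (zero_add 1) = (0 : Ext.{u} P S.X₁ 1) := by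
  rw [← Ext.mk₀_comp_mk₀, Ext.comp_assoc_of_second_deg_zero, hS.comp_extClass, Ext.comp_zero]

/-- If `Hom(P, -)` is right exact on short exact sequences with flasque kernel,
then flasque sheaves have no higher `Ext` from `P`. -/
theorem ext_subsingleton_of_flasque (P : CohTop.Ab X)
    (hP : ∀ {S : ShortComplex (CohTop.Ab X)}, S.ShortExact → TopCat.Sheaf.IsFlasque S.X₁ →
      ∀ y : P ⟶ S.X₃, ∃ x : P ⟶ S.X₂, x ≫ S.g = y)
    (n : ℕ) : ∀ (F : CohTop.Ab X), TopCat.Sheaf.IsFlasque F →
      Subsingleton (Ext.{u} P F (n + 1)) := by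
  induction n with
  | zero =>
    intro F hF
    refine subsingleton_of_forall_eq 0 fun ξ ↦ ?_
    obtain ⟨y, rfl⟩ := Ext.covariant_sequence_exact₁ P (injSES_shortExact F) ξ
      (Ext.eq_zero_of_injective _) (zero_add 1)
    obtain ⟨y, rfl⟩ := (Ext.mk₀_bijective P _).2 y
    haveI : TopCat.Sheaf.IsFlasque (injSES F).X₁ := hF
    obtain ⟨x, rfl⟩ := hP (injSES_shortExact F) hF y
    exact mk₀_comp_g_comp_extClass (injSES_shortExact F) x
  | succ n ih =>
    intro F hF
    haveI : TopCat.Sheaf.IsFlasque (injSES F).X₁ := hF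
    haveI := TopCat.Sheaf.IsFlasque.of_shortExact_of_isFlasque₁₂ (injSES_shortExact F)
    haveI := ih (injSES F).X₃ inferInstance
    refine subsingleton_of_forall_eq 0 fun ξ ↦ ?_
    obtain ⟨y, rfl⟩ := Ext.covariant_sequence_exact₁ P (injSES_shortExact F) ξ
      (Ext.eq_zero_of_injective _) rfl
    rw [Subsingleton.elim y 0, Ext.zero_comp]

/-- A flasque sheaf has no higher cohomology over any open. -/
theorem HU_flasque (F : CohTop.Ab X) [TopCat.Sheaf.IsFlasque F] (U : Opens X) (n : ℕ) :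
    Subsingleton (CohTop.HU F (n + 1) U) := by
  refine ext_subsingleton_of_flasque (Zs.obj U) (fun {S} hS hF y ↦ ?_) n F inferInstance
  haveI := hF
  obtain ⟨x, hx⟩ := (AddCommGrpCat.epi_iff_surjective _).1
    (TopCat.Sheaf.IsFlasque.epi_of_shortExact (U := U) hS) (homEquiv U _ y)
  refine ⟨(homEquiv U _).symm x, (homEquiv U _).injective ?_⟩
  rw [homEquiv_comp, Equiv.apply_symm_apply, hx]

/-- The generator of `ℤ`. -/
abbrev one : (AddCommGrpCat.of (ULift.{u} ℤ) : Type u) := ULift.up 1

/-- Morphisms out of the constant sheaf `ℤ` are global sections. -/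
noncomputable def constEquiv (F : CohTop.Ab X) :
    ((constantSheaf (Opens.grothendieckTopology X) AddCommGrpCat.{u}).obj
      (AddCommGrpCat.of (ULift.{u} ℤ)) ⟶ F) ≃ F.obj.obj (op ⊤) :=
  (((constantSheafAdj (Opens.grothendieckTopology X) AddCommGrpCat.{u}
    (isTerminalTop (α := Opens X))).homAddEquiv _ F).trans (AddCommGrpCat.uliftZMultiplesAddEquiv _)).toEquiv

lemma constEquiv_comp {F G : CohTop.Ab X}
    (g : (constantSheaf (Opens.grothendieckTopology X) AddCommGrpCat.{u}).obj
      (AddCommGrpCat.of (ULift.{u} ℤ)) ⟶ F) (φ : F ⟶ G) :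
    constEquiv G (g ≫ φ) = φ.hom.app (op ⊤) (constEquiv F g) := by
  simp only [constEquiv, AddEquiv.coe_toEquiv, AddEquiv.trans_apply,
    Adjunction.homAddEquiv_apply, Adjunction.homEquiv_naturality_right]
  rfl

/-- A flasque sheaf has no higher cohomology. -/
theorem H_flasque (F : CohTop.Ab X) [TopCat.Sheaf.IsFlasque F] (n : ℕ) :
    Subsingleton (CohTop.H F (n + 1)) := by
  refine ext_subsingleton_of_flasque _ (fun {S} hS hF y ↦ ?_) n F inferInstance
  haveI := hF
  obtain ⟨x, hx⟩ := (AddCommGrpCat.epi_iff_surjective _).1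
    (TopCat.Sheaf.IsFlasque.epi_of_shortExact (U := ⊤) hS) (constEquiv _ y)
  refine ⟨(constEquiv _).symm x, (constEquiv _).injective ?_⟩
  rw [constEquiv_comp, Equiv.apply_symm_apply, hx]

/-- Restriction of cohomology classes. -/
noncomputable def rs (F : CohTop.Ab X) (n : ℕ) {U V : Opens X} (h : V ≤ U) :
    Ext.{u} (Zs.obj U) F n →+ Ext.{u} (Zs.obj V) F n :=
  (Ext.mk₀ (Zs.map (homOfLE h))).precomp F (zero_add n)

lemma rs_apply (F : CohTop.Ab X) (n : ℕ) {U V : Opens X} (h : V ≤ U)
    (ξ : Ext.{u} (Zs.obj U) F n) :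
    rs F n h ξ = (Ext.mk₀ (Zs.map (homOfLE h))).comp ξ (zero_add n) := rfl

lemma res_eq_rs (F : CohTop.Ab X) (n : ℕ) {U V : Opens X} (h : V ≤ U) :
    CohTop.res F n h = rs F n h := rfl

lemma rs_comp {m : ℕ} (n : ℕ) {F G : CohTop.Ab X} {p : ℕ} (hp : n + m = p) {U V : Opens X}
    (h : V ≤ U) (y : Ext.{u} (Zs.obj U) F n) (z : Ext.{u} F G m) :
    rs G p h (y.comp z hp) = (rs F n h y).comp z hp :=
  (Ext.comp_assoc (Ext.mk₀ (Zs.map (homOfLE h))) y z (zero_add n) hp (by omega)).symm

lemma rs_mk₀ (F : CohTop.Ab X) {U V : Opens X} (h : V ≤ U) (g : Zs.obj U ⟶ F) :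
    rs F 0 h (Ext.mk₀ g) = Ext.mk₀ (Zs.map (homOfLE h) ≫ g) :=
  Ext.mk₀_comp_mk₀ _ _

/-- A section killed locally by `g` gives a local lift. -/
lemma exists_local_lift {S : ShortComplex (CohTop.Ab X)} (hS : S.ShortExact) {U : Opens X}
    (q : S.X₃.obj.obj (op U)) {x : X} (hx : x ∈ U) :
    ∃ (V : Opens X) (h : V ≤ U) (i : S.X₂.obj.obj (op V)),
      x ∈ V ∧ S.g.hom.app (op V) i = S.X₃.obj.map (homOfLE h).op q := by
  have := (TopCat.Presheaf.isLocallySurjective_iff S.g.hom).1
    ((TopCat.Sheaf.isLocallySurjective_iff_epi S.g).2 hS.epi_g) U q x hx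
  obtain ⟨V, h, ⟨i, hi⟩, hV⟩ := this
  exact ⟨V, h, i, hV, hi⟩

/-- Positive degree classes die locally. -/
theorem exists_res_eq_zero (n : ℕ) : ∀ (F : CohTop.Ab X) (U : Opens X)
    (ξ : Ext.{u} (Zs.obj U) F (n + 1)) (x : X), x ∈ U →
      ∃ (V : Opens X) (h : V ≤ U), x ∈ V ∧ rs F (n + 1) h ξ = 0 := by
  induction n with
  | zero =>
    intro F U ξ x hx
    obtain ⟨y, rfl⟩ := Ext.covariant_sequence_exact₁ _ (injSES_shortExact F) ξ
      (Ext.eq_zero_of_injective _) (zero_add 1)
    obtain ⟨y, rfl⟩ := (Ext.mk₀_bijective _ _).2 y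
    obtain ⟨V, h, i, hV, hi⟩ := exists_local_lift (injSES_shortExact F) (homEquiv U _ y) hx
    refine ⟨V, h, hV, ?_⟩
    refine (rs_comp 0 _ h _ _).trans ?_
    have : Zs.map (homOfLE h) ≫ y = (homEquiv V _).symm i ≫ (injSES F).g := by
      apply (homEquiv V _).injective
      rw [homEquiv_res, homEquiv_comp, Equiv.apply_symm_apply, hi]
    rw [rs_mk₀, this]
    exact mk₀_comp_g_comp_extClass (injSES_shortExact F) _
  | succ n ih =>
    intro F U ξ x hx
    obtain ⟨y, rfl⟩ := Ext.covariant_sequence_exact₁ _ (injSES_shortExact F) ξ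
      (Ext.eq_zero_of_injective _) rfl
    obtain ⟨V, h, hV, hy⟩ := ih _ U y x hx
    refine ⟨V, h, hV, ?_⟩
    refine (rs_comp (n + 1) _ h _ _).trans ?_
    rw [hy, Ext.zero_comp]

end Groth.Agent.Lib.ZarCoh.Basic
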