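import Groth.Agent.Lib.ZarCoh.Compare

/-!
`H^n(V, f_* F) = H^n(f⁻¹V, F)` when `F` is acyclic on preimages of a basis.
-/

set_option linter.style.haveILetI false

universe u

open CategoryTheory CategoryTheory.Limits TopologicalSpace Opposite CategoryTheory.Abelian
open Groth.Agent.Lib.ZarCoh.Basic Groth.Agent.Lib.ZarCoh.Compare

namespace Groth.Agent.Lib.ZarCoh.Push

variable {X Y : TopCat.{u}} (f : X ⟶ Y) (B : Set (Opens Y))

/-- `F` has no cohomology in degrees `1..n` on preimages of members of `B`. -/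
def Van (F : CohTop.Ab X) (n : ℕ) : Prop :=
  ∀ W ∈ B, ∀ q, q < n → Subsingleton (Ext.{u} (Zs.obj ((Opens.map f).obj W)) F (q + 1))

lemma van_flasque (F : CohTop.Ab X) [TopCat.Sheaf.IsFlasque F] (n : ℕ) : Van f B F n :=
  fun W _ q _ ↦ HU_flasque F _ q

variable {f B}

lemma van_zero (F : CohTop.Ab X) : Van f B F 0 := fun _ _ q hq ↦ absurd hq q.not_lt_zero

lemma Van.X₃ {F : CohTop.Ab X} {n : ℕ} (h : Van f B F (n + 1)) :
    Van f B (injSES F).X₃ n := fun W hW q hq ↦ by
  refine subsingleton_of_forall_eq 0 fun y ↦ ?_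
  have h0 : Ext.comp y (injSES_shortExact F).extClass rfl = 0 :=
    (h W hW (q + 1) (by omega)).elim _ _
  obtain ⟨i, rfl⟩ := Ext.covariant_sequence_exact₃ _ (injSES_shortExact F) y rfl h0
  rw [show i = 0 from (HU_flasque (injSES F).X₂ _ q).elim _ _, Ext.zero_comp]

/-- Direct image of the injective embedding, as a short complex. -/
noncomputable abbrev pushS (f : X ⟶ Y) (F : CohTop.Ab X) : ShortComplex (CohTop.Ab Y) :=
  (injSES F).map (CohTop.push f)

lemma pushS_exact (f : X ⟶ Y) (F : CohTop.Ab X) : (pushS f F).Exact ∧ Mono (pushS f F).f := by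
  haveI : (CohTop.push f).IsRightAdjoint := (ppAdj f).isRightAdjoint
  haveI : PreservesLimitsOfSize.{0, 0} (CohTop.push f) := (ppAdj f).rightAdjoint_preservesLimits
  haveI : PreservesFiniteLimits (CohTop.push f) :=
    PreservesLimitsOfSize.preservesFiniteLimits (CohTop.push f)
  haveI : (CohTop.push f).PreservesMonomorphisms :=
    preservesMonomorphisms_of_preservesLimitsOfShape _
  exact ⟨(injSES_shortExact F).exact.map_of_mono_of_preservesKernel _
    (injSES_shortExact F).mono_f inferInstance, (CohTop.push f).map_mono (injSES F).f⟩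

/-- `0 → f_*F → f_*I → coker → 0`. -/
noncomputable abbrev pushT (f : X ⟶ Y) (F : CohTop.Ab X) : ShortComplex (CohTop.Ab Y) :=
  ShortComplex.mk ((CohTop.push f).map (injSES F).f) (cokernel.π _) (cokernel.condition _)

lemma pushT_shortExact (f : X ⟶ Y) (F : CohTop.Ab X) : (pushT f F).ShortExact := by
  haveI : Mono ((CohTop.push f).map (injSES F).f) := (pushS_exact f F).2
  exact { exact := ShortComplex.exact_cokernel _ }

/-- The comparison `coker → f_* Q`. -/
noncomputable abbrev jmap (f : X ⟶ Y) (F : CohTop.Ab X) :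
    (pushT f F).X₃ ⟶ (CohTop.push f).obj (injSES F).X₃ :=
  cokernel.desc _ ((CohTop.push f).map (injSES F).g) (by
    rw [← Functor.map_comp, (injSES F).zero, Functor.map_zero])

lemma mono_jmap (f : X ⟶ Y) (F : CohTop.Ab X) : Mono (jmap f F) :=
  (ShortComplex.exact_iff_mono_cokernel_desc (pushS f F)).1 (pushS_exact f F).1

/-- If `H^1` of `F` vanishes on preimages of a basis, `f_* I → f_* Q` is an epimorphism. -/
lemma epi_push_g (hB : Opens.IsBasis B) {F : CohTop.Ab X} (h : Van f B F 1) :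
    Epi ((CohTop.push f).map (injSES F).g) := by
  refine (TopCat.Sheaf.isLocallySurjective_iff_epi _).1
    ((TopCat.Presheaf.isLocallySurjective_iff _).2 fun U s x hx ↦ ?_)
  obtain ⟨W, hW, hxW, hWU⟩ := Opens.isBasis_iff_nbhd.1 hB hx
  refine ⟨W, hWU, ?_, hxW⟩
  let q : Zs.obj ((Opens.map f).obj W) ⟶ (injSES F).X₃ :=
    (homEquiv _ _).symm (((CohTop.push f).obj (injSES F).X₃).obj.map (homOfLE hWU).op s)
  obtain ⟨i, hi⟩ := Ext.covariant_sequence_exact₃ _ (injSES_shortExact F) (Ext.mk₀ q) (zero_add 1)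
    ((h W hW 0 zero_lt_one).elim _ _)
  obtain ⟨i, rfl⟩ := (Ext.mk₀_bijective _ _).2 i
  rw [Ext.mk₀_comp_mk₀] at hi
  refine ⟨homEquiv ((Opens.map f).obj W) _ i, ?_⟩
  have := congrArg (homEquiv ((Opens.map f).obj W) (injSES F).X₃) ((Ext.mk₀_bijective _ _).1 hi)
  rw [homEquiv_comp] at this
  refine this.trans ?_
  exact (homEquiv ((Opens.map f).obj W) (injSES F).X₃).apply_symm_apply _

lemma isIso_jmap (hB : Opens.IsBasis B) {F : CohTop.Ab X} (h : Van f B F 1) :
    IsIso (jmap f F) := by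
  haveI := mono_jmap f F
  haveI := epi_push_g hB h
  haveI : Epi (jmap f F) := epi_of_epi_fac (cokernel.π_desc _ _ _)
  exact isIso_of_mono_of_epi _

variable (V : Opens Y)

lemma pushMap_zero_bijective (F : CohTop.Ab X) : Function.Bijective (pushMap f V 0 F) := by
  have : pushMap f V 0 F ∘ Ext.mk₀ = fun g ↦
      Ext.mk₀ ((homEquiv ((Opens.map f).obj V) F).symm (homEquiv V _ g)) :=
    funext fun g ↦ pushMap_mk₀ f V g
  refine (Function.Bijective.of_comp_iff _ (Ext.mk₀_bijective _ _)).1 ?_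
  rw [this]
  exact (Ext.mk₀_bijective _ _).comp ((Equiv.bijective _).comp (homEquiv V _).bijective)

lemma comp_mk₀_comp_mk₀_comp {P A B C D : CohTop.Ab X} {n : ℕ} (a : Ext.{u} P A n) (g : A ⟶ B)
    (c : B ⟶ C) (e : Ext.{u} C D 1) :
    a.comp ((Ext.mk₀ (g ≫ c)).comp e (zero_add 1)) rfl =
      ((a.comp (Ext.mk₀ g) (add_zero n)).comp (Ext.mk₀ c) (add_zero n)).comp e rfl := by
  rw [← Ext.mk₀_comp_mk₀, ← Ext.comp_assoc a _ _ (add_zero n) (zero_add 1) (by omega),
    ← Ext.comp_assoc a _ _ (add_zero n) (zero_add 0) (by omega)]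

/-- `pushMap` commutes with the connecting homomorphisms. -/
lemma pushMap_δ (F : CohTop.Ab X) (n : ℕ) (y : Ext.{u} (Zs.obj V) (pushT f F).X₃ n) :
    pushMap f V (n + 1) F (y.comp (pushT_shortExact f F).extClass rfl) =
      (pushMap f V n _ (y.comp (Ext.mk₀ (jmap f F)) (add_zero n))).comp
        (injSES_shortExact F).extClass rfl := by
  have hT := (pushT_shortExact f F).map_of_exact (CohTop.pull f)
  have hS := injSES_shortExact F
  let φ : (pushT f F).map (CohTop.pull f) ⟶ injSES F :=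
    { τ₁ := (ppAdj f).counit.app _
      τ₂ := (ppAdj f).counit.app _
      τ₃ := (CohTop.pull f).map (jmap f F) ≫ (ppAdj f).counit.app _
      comm₁₂ := ((ppAdj f).counit.naturality (injSES F).f).symm
      comm₂₃ := by
        dsimp only [ShortComplex.map]
        rw [← Category.assoc, ← Functor.map_comp, cokernel.π_desc]
        exact ((ppAdj f).counit.naturality (injSES F).g).symm }
  have key : hT.extClass.comp (Ext.mk₀ φ.τ₁) (add_zero 1) =
      (Ext.mk₀ φ.τ₃).comp hS.extClass (zero_add 1) :=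
    ShortComplex.ShortExact.extClass_naturality hT hS φ
  rw [pushMap_apply, pushMap_apply, cmp_comp, cmp_comp, Ext.mapExactFunctor_extClass,
    Ext.mapExactFunctor_mk₀]
  refine (Ext.comp_assoc (cmp (CohTop.pull f) (pullGen f V) n (pushT f F).X₃ y) hT.extClass
    (Ext.mk₀ φ.τ₁) rfl (add_zero 1) (by omega)).trans ?_
  refine (congrArg (fun t ↦ Ext.comp (cmp (CohTop.pull f) (pullGen f V) n (pushT f F).X₃ y) t rfl)
    key).trans ?_
  exact comp_mk₀_comp_mk₀_comp (cmp (CohTop.pull f) (pullGen f V) n (pushT f F).X₃ y)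
    ((CohTop.pull f).map (jmap f F)) ((ppAdj f).counit.app _) hS.extClass

/-- One step of injectivity. -/
lemma injective_succ {F : CohTop.Ab X} (n : ℕ)
    (hj : Function.Injective fun y : Ext.{u} (Zs.obj V) (pushT f F).X₃ n ↦
      y.comp (Ext.mk₀ (jmap f F)) (add_zero n))
    (hQ : Function.Injective (pushMap f V n (injSES F).X₃))
    (hI : Function.Surjective (pushMap f V n (injSES F).X₂)) :
    Function.Injective (pushMap f V (n + 1) F) := by
  refine (injective_iff_map_eq_zero _).2 fun ξ hξ ↦ ?_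
  haveI : TopCat.Sheaf.IsFlasque ((CohTop.push f).obj (injSES F).X₂) :=
    TopCat.Sheaf.IsFlasque.pushforward_isFlasque _ f
  obtain ⟨y, rfl⟩ := Ext.covariant_sequence_exact₁ _ (pushT_shortExact f F) ξ
    ((HU_flasque ((CohTop.push f).obj (injSES F).X₂) V n).elim _ _) rfl
  rw [pushMap_δ] at hξ
  obtain ⟨i, hi⟩ := Ext.covariant_sequence_exact₃ _ (injSES_shortExact F) _ rfl hξ
  obtain ⟨i, rfl⟩ := hI i
  rw [← pushMap_natural] at hi
  have := hQ hi
  have h2 : y = i.comp (Ext.mk₀ (pushT f F).g) (add_zero n) := hj (by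
    simp only
    rw [← this, Ext.comp_assoc_of_second_deg_zero]
    congr 1
    rw [Ext.mk₀_comp_mk₀, cokernel.π_desc])
  subst h2
  rw [Ext.comp_assoc_of_second_deg_zero, (pushT_shortExact f F).comp_extClass, Ext.comp_zero]

/-- Bijectivity in degree `n` and injectivity in degree `n + 1`. -/
theorem bijective_and_injective (hB : Opens.IsBasis B) (n : ℕ) : ∀ F : CohTop.Ab X, Van f B F n →
    Function.Bijective (pushMap f V n F) ∧ Function.Injective (pushMap f V (n + 1) F) := by
  induction n with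
  | zero =>
    intro F _
    refine ⟨pushMap_zero_bijective V F, injective_succ V 0 ?_ (pushMap_zero_bijective V _).1
      (pushMap_zero_bijective V _).2⟩
    intro a b hab
    haveI := mono_jmap f F
    obtain ⟨a, rfl⟩ := (Ext.mk₀_bijective _ _).2 a
    obtain ⟨b, rfl⟩ := (Ext.mk₀_bijective _ _).2 b
    simp only [Ext.mk₀_comp_mk₀] at hab
    rw [(cancel_mono _).1 ((Ext.mk₀_bijective _ _).1 hab)]
  | succ n ih =>
    intro F hF
    haveI := isIso_jmap hB (F := F) (fun W hW q hq ↦ hF W hW q (by omega))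
    have hj : ∀ m, Function.Injective fun y : Ext.{u} (Zs.obj V) (pushT f F).X₃ m ↦
        y.comp (Ext.mk₀ (jmap f F)) (add_zero m) := fun m a b hab ↦ by
      have := congrArg (fun t ↦ Ext.comp t (Ext.mk₀ (inv (jmap f F))) (add_zero m)) hab
      simpa using this
    have hQ := ih _ hF.X₃
    have hI : ∀ m, Function.Surjective (pushMap f V (m + 1) (injSES F).X₂) :=
      fun m ξ ↦ ⟨0, (HU_flasque (injSES F).X₂ _ m).elim _ _⟩
    have hinj : Function.Injective (pushMap f V (n + 1) F) := by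
      cases n with
      | zero => exact injective_succ V 0 (hj 0) hQ.1.1 (pushMap_zero_bijective V _).2
      | succ m => exact injective_succ V (m + 1) (hj _) hQ.1.1 (hI m)
    refine ⟨⟨hinj, fun ξ ↦ ?_⟩, injective_succ V (n + 1) (hj _) hQ.2 (hI n)⟩
    obtain ⟨y, rfl⟩ := Ext.covariant_sequence_exact₁ _ (injSES_shortExact F) ξ
      ((HU_flasque (injSES F).X₂ _ n).elim _ _) rfl
    obtain ⟨z, rfl⟩ := hQ.1.2 y
    refine ⟨(z.comp (Ext.mk₀ (inv (jmap f F))) (add_zero n)).comp
      (pushT_shortExact f F).extClass rfl, ?_⟩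
    rw [pushMap_δ, Ext.comp_assoc_of_second_deg_zero, Ext.mk₀_comp_mk₀, IsIso.inv_hom_id,
      Ext.comp_mk₀_id]

/-- `H^n(V, f_*F) → H^n(f⁻¹ V, F)` is bijective if `F` is acyclic over a basis. -/
theorem pushMap_bijective (hB : Opens.IsBasis B) (F : CohTop.Ab X)
    (h : ∀ W ∈ B, ∀ q, Subsingleton (CohTop.HU F (q + 1) ((Opens.map f).obj W))) (n : ℕ) :
    Function.Bijective (pushMap f V n F) :=
  (bijective_and_injective V hB n F fun W hW q _ ↦ h W hW q).1

end Groth.Agent.Lib.ZarCoh.Push
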