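import Groth.Agent.Lib.ZarCoh.FlatBC.Main
import Groth.Agent.Lib.ClSub.Basis
import Mathlib.AlgebraicGeometry.Morphisms.Flat

/-!
# Base change for direct images along affine morphisms
-/

set_option autoImplicit false
set_option linter.style.haveILetI false
universe u

open CategoryTheory CategoryTheory.Limits AlgebraicGeometry Opposite TopologicalSpace
open Groth.Agent.Lib
open scoped TensorProduct

namespace ZarCoh.AffineBC

variable {X S X' S' : Scheme.{u}} {f : X ⟶ S} {g : S' ⟶ S} {g' : X' ⟶ X} {f' : X' ⟶ S'}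
variable (h : IsPullback g' f' f g) (M : X.Modules)

/-- The transposed base change map. -/
noncomputable def τ : (Coh.push f).obj M ⟶
    (Coh.push g).obj ((Coh.push f').obj ((Scheme.Modules.pullback g').obj M)) :=
  (Coh.push f).map ((Scheme.Modules.pullbackPushforwardAdjunction g').unit.app M) ≫
    (Scheme.Modules.pushforwardComp g' f).hom.app _ ≫
      (Scheme.Modules.pushforwardCongr h.w).hom.app _ ≫
        (Scheme.Modules.pushforwardComp f' g).inv.app _

/-- The base change map. -/
noncomputable def bc : (Scheme.Modules.pullback g).obj ((Coh.push f).obj M) ⟶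
    (Coh.push f').obj ((Scheme.Modules.pullback g').obj M) :=
  ((Scheme.Modules.pullbackPushforwardAdjunction g).homEquiv _ _).symm (τ h M)

theorem bc_pbRes {V : S.Opens} {W : S'.Opens} (e : W ≤ g ⁻¹ᵁ V) (e' : f' ⁻¹ᵁ W ≤ g' ⁻¹ᵁ (f ⁻¹ᵁ V))
    (n : Γ((Coh.push f).obj M, V)) :
    (bc h M).app W (FlatBC.PullbackSections.pbRes g ((Coh.push f).obj M) e n) =
      FlatBC.PullbackSections.pbRes g' M e' n := by
  let N := (Scheme.Modules.pullback g').obj M
  have hτ : (Scheme.Modules.pullbackPushforwardAdjunction g).unit.app ((Coh.push f).obj M) ≫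
      (Coh.push g).map (bc h M) = τ h M := by
    exact ((Scheme.Modules.pullbackPushforwardAdjunction g).homEquiv_unit ..).symm.trans
      (((Scheme.Modules.pullbackPushforwardAdjunction g).homEquiv _ _).apply_symm_apply _)
  show (bc h M).app W (((Scheme.Modules.pullback g).obj ((Coh.push f).obj M)).presheaf.map
      (homOfLE e).op (((Scheme.Modules.pullbackPushforwardAdjunction g).unit.app
        ((Coh.push f).obj M)).app V n)) = _
  refine (QCoh.Localizing.res_app (bc h M) e _).symm.trans ?_
  have h1 : (bc h M).app (g ⁻¹ᵁ V) (((Scheme.Modules.pullbackPushforwardAdjunction g).unit.app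
      ((Coh.push f).obj M)).app V n) = (τ h M).app V n := by rw [← hτ]; rfl
  rw [h1]
  show N.presheaf.map ((Opens.map f'.base).map (homOfLE e)).op
      (N.presheaf.map _ (((Scheme.Modules.pullbackPushforwardAdjunction g').unit.app M).app
        (f ⁻¹ᵁ V) n)) = N.presheaf.map (homOfLE e').op _
  rw [← ConcreteCategory.comp_apply, ← Functor.map_comp]
  rfl

theorem isIso_bc [IsAffineHom f] [M.IsQuasicoherent] : IsIso (bc h M) := by
  haveI : IsAffineHom f' := MorphismProperty.of_isPullback h inferInstance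
  haveI := QCoh.Pullback.isQCoh_pullback g' M
  haveI : ((Coh.push f).obj M).IsQuasicoherent := QCoh.Pushforward.isQCoh_pushforward f (M := M)
  have key : ∀ (V : S.Opens) (W : S'.Opens), IsAffineOpen V → IsAffineOpen W →
      W ≤ g ⁻¹ᵁ V → Function.Bijective ((bc h M).app W) := by
    intro V W hV hW e
    let U := f ⁻¹ᵁ V
    let U' := f' ⁻¹ᵁ W
    have e' : U' ≤ g' ⁻¹ᵁ U := by
      intro x hx
      show f (g' x) ∈ V
      rw [← Scheme.Hom.comp_apply, h.w, Scheme.Hom.comp_apply]
      exact e hx
    have hU' : U' = g' ⁻¹ᵁ U ⊓ f' ⁻¹ᵁ W := (inf_eq_right.mpr e').symm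
    let N := Γ(M, U)
    letI : Algebra Γ(S, V) Γ(S', W) := (g.appLE V W e).hom.toAlgebra
    letI : Algebra Γ(S, V) Γ(X, U) := (f.app V).hom.toAlgebra
    letI : Algebra Γ(S', W) Γ(X', U') := (f'.app W).hom.toAlgebra
    letI : Algebra Γ(X, U) Γ(X', U') := (g'.appLE U U' e').hom.toAlgebra
    letI : Algebra Γ(S, V) Γ(X', U') :=
      ((algebraMap Γ(S', W) Γ(X', U')).comp (algebraMap Γ(S, V) Γ(S', W))).toAlgebra
    haveI : IsScalarTower Γ(S, V) Γ(S', W) Γ(X', U') := IsScalarTower.of_algebraMap_eq fun _ => rfl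
    have hw : g.appLE V W e ≫ f'.app W = f.app V ≫ g'.appLE U U' e' := by
      rw [← Scheme.Hom.appLE_eq_app, ← Scheme.Hom.appLE_eq_app, Scheme.Hom.appLE_comp_appLE,
        Scheme.Hom.appLE_comp_appLE]
      congr 1
      exact h.w.symm
    haveI : IsScalarTower Γ(S, V) Γ(X, U) Γ(X', U') :=
      IsScalarTower.of_algebraMap_eq fun a => congr($hw a)
    haveI : Algebra.IsPushout Γ(S, V) Γ(S', W) Γ(X, U) Γ(X', U') :=
      CommRingCat.isPushout_iff_isPushout.mp (by
        have po := (isIso_pushoutSection_iff h e le_rfl hU').mp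
          (isIso_pushoutSection_of_isAffineOpen h e le_rfl hU' hV hW (hV.preimage f))
        have p2 := po.flip
        show IsPushout (g.appLE V W e) (f.app V) (f'.app W) (g'.appLE U U' e')
        rw [Scheme.Hom.app_eq_appLE, Scheme.Hom.app_eq_appLE]
        exact p2)
    letI : Module Γ(S, V) N := Module.compHom _ (f.app V).hom
    haveI : IsScalarTower Γ(S, V) Γ(X, U) N := IsScalarTower.of_algebraMap_smul fun _ _ => rfl
    let c := FlatBC.PullbackSections.pbTensor g ((Coh.push f).obj M) e
    have hc := FlatBC.PullbackSections.bijective_pbTensor g ((Coh.push f).obj M) hV hW e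
    let d : Γ(S', W) ⊗[Γ(S, V)] N →+ Γ((Scheme.Modules.pullback g').obj M, U') :=
      AddMonoidHom.mk' (fun z => (bc h M).app W (c z)) fun a b =>
        (congrArg ((bc h M).app W) (c.map_add a b)).trans (map_add ((bc h M).app W).hom _ _)
    have hd : Function.Bijective d :=
      FlatBC.Main.bijective_of_isPushout (N := N) (FlatBC.PullbackSections.pbTensor g' M e')
        (FlatBC.PullbackSections.bijective_pbTensor g' M (hV.preimage f) (hW.preimage f') e') d
        fun b n => by
          show (bc h M).app W (c (b ⊗ₜ n)) = _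
          erw [FlatBC.PullbackSections.pbTensor_tmul, Scheme.Modules.Hom.app_smul, bc_pbRes h M e e',
            FlatBC.PullbackSections.pbTensor_tmul, one_smul]
          rfl
    exact (Function.Bijective.of_comp_iff _ hc).mp hd
  have hb : ∀ (x : S') (O : S'.Opens), x ∈ O →
      ∃ W ≤ O, x ∈ W ∧ Function.Bijective ((bc h M).app W) := by
    intro x O hx
    obtain ⟨V, hV, hxV, -⟩ := exists_isAffineOpen_mem_and_subset (show g x ∈ (⊤ : S.Opens) from trivial)
    obtain ⟨W, hW, hxW, hle⟩ := exists_isAffineOpen_mem_and_subset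
      (show x ∈ O ⊓ g ⁻¹ᵁ V from ⟨hx, hxV⟩)
    exact ⟨W, fun y hy => (hle hy).1, hxW, key V W hV hW fun y hy => (hle hy).2⟩
  haveI : Epi (bc h M) := (Modules.Stalk.epi_iff_stalk_surjective _).mpr fun x =>
    Groth.Agent.Lib.ClSub.Basis.stalk_surjective_of_basis _ x fun O hx => by
      obtain ⟨W, hle, hxW, hW⟩ := hb x O hx
      exact ⟨W, hle, hxW, hW.2⟩
  haveI : Mono (bc h M) := (Modules.Stalk.mono_iff_stalk_injective _).mpr fun x =>
    Groth.Agent.Lib.ClSub.Basis.stalk_injective_of_basis _ x fun O hx => by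
      obtain ⟨W, hle, hxW, hW⟩ := hb x O hx
      exact ⟨W, hle, hxW, hW.1⟩
  exact isIso_of_mono_of_epi _

end ZarCoh.AffineBC
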