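import Groth.Agent.H34.HOne
import Groth.Agent.Lib.ClSub.Quot
import Groth.Agent.Lib.ClSub.Cartier
import Groth.Agent.Lib.TensorMod.QCohInv
import Groth.Agent.Lib.QCoh.Closure
import Groth.Agent.Lib.QCoh.Pushforward
import Mathlib.AlgebraicGeometry.Morphisms.Affine
import Mathlib.CategoryTheory.Limits.Shapes.Biproducts

/-!
# Serre's criterion of affineness

A quasi-compact scheme on which taking global sections is right exact for quasi-coherent ideals
and finite free modules is affine.
-/

set_option autoImplicit false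
set_option linter.style.haveILetI false
universe u

open CategoryTheory Limits AlgebraicGeometry Opposite TopologicalSpace

namespace ZarCoh.SerreAff

open Groth.Agent.Lib

variable {X : Scheme.{u}}

/-- Every closed point has an affine neighbourhood of the form `D(f)`, if functions lift from
closed subschemes. -/
theorem exists_basicOpen_of_isClosed_singleton
    (hJ : ∀ K : X.IdealSheafData, Function.Surjective (K.subschemeι.app ⊤))
    {x : X} (hx : IsClosed ({x} : Set X)) :
    ∃ f : Γ(X, ⊤), x ∈ X.basicOpen f ∧ IsAffineOpen (X.basicOpen f) := by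
  obtain ⟨U, hU, hxU, -⟩ :=
    exists_isAffineOpen_mem_and_subset (show x ∈ (⊤ : X.Opens) from trivial)
  let Z : Closeds X := ⟨(U : Set X)ᶜ ∪ {x}, U.2.isClosed_compl.union hx⟩
  let ι := (Scheme.IdealSheafData.vanishingIdeal Z).subschemeι
  let V : X.Opens := ⟨({x} : Set X)ᶜ, hx.isOpen_compl⟩
  have hr : Set.range ⇑ι = (U : Set X)ᶜ ∪ {x} := by
    rw [Scheme.IdealSheafData.range_subschemeι, Scheme.IdealSheafData.coe_support_vanishingIdeal]
    rfl
  let T := (Scheme.IdealSheafData.vanishingIdeal Z).subscheme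
  let A : Bool → T.Opens := fun b => cond b (ι ⁻¹ᵁ U) (ι ⁻¹ᵁ V)
  have hdisj : A true ⊓ A false = ⊥ := by
    ext z
    simp only [Opens.coe_bot, Set.mem_empty_iff_false, iff_false]
    rintro ⟨h1, h2⟩
    rcases (hr ▸ Set.mem_range_self z : ι z ∈ (U : Set X)ᶜ ∪ {x}) with h | h
    exacts [h h1, h2 h]
  have hsub : Subsingleton Γ(T, A true ⊓ A false) := by rw [hdisj]; infer_instance
  have hsub' : Subsingleton Γ(T, A false ⊓ A true) := by rw [inf_comm, hdisj]; infer_instance
  have hcov : (⊤ : T.Opens) ≤ iSup A := fun z _ => by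
    by_cases h : ι z = x
    · exact Opens.mem_iSup.mpr ⟨true, show ι z ∈ U from h ▸ hxU⟩
    · exact Opens.mem_iSup.mpr ⟨false, show ι z ∈ V from h⟩
  let sf : ∀ b, Γ(T, A b) := fun b =>
    match b with
    | true => 1
    | false => 0
  obtain ⟨e, he, -⟩ := T.sheaf.existsUnique_gluing' A ⊤ (fun b => homOfLE le_top) hcov sf
    (fun b c => by
      cases b <;> cases c
      · rfl
      · exact @Subsingleton.elim _ hsub' _ _
      · exact @Subsingleton.elim _ hsub _ _
      · rfl)
  obtain ⟨f, hf⟩ := hJ _ e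
  have key : ∀ (b : Bool) (z : T) (hz : z ∈ A b),
      (ι.stalkMap z) (X.presheaf.germ ⊤ (ι z) trivial f) = T.presheaf.germ (A b) z hz (sf b) := by
    intro b z hz
    rw [Scheme.Hom.germ_stalkMap_apply]
    show T.presheaf.germ _ z _ (ι.app ⊤ f) = _
    rw [hf, ← he b]
    exact (TopCat.Presheaf.germ_res_apply T.presheaf (homOfLE (le_top : A b ≤ ⊤)) z hz e).symm
  have hle : X.basicOpen f ≤ U := by
    intro y hy
    by_contra hyU
    obtain ⟨z, rfl⟩ : y ∈ Set.range ⇑ι := hr ▸ Or.inl hyU
    have hzV : z ∈ A false := fun h => hyU (show ι z ∈ U from (show ι z = x from h) ▸ hxU)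
    have h0 := ((X.mem_basicOpen f (ι z) trivial).mp hy).map (ι.stalkMap z).hom
    have e0 : T.presheaf.germ (A false) z hzV (sf false) = 0 := map_zero _
    rw [key false z hzV, e0] at h0
    exact not_isUnit_zero h0
  refine ⟨f, ?_, ?_⟩
  · obtain ⟨z, hz⟩ : x ∈ Set.range ⇑ι := hr ▸ Or.inr rfl
    have hzU : z ∈ A true := show ι z ∈ U from hz ▸ hxU
    rw [← hz, X.mem_basicOpen f _ trivial]
    refine (isUnit_map_iff (ι.stalkMap z).hom _).mp ?_
    show IsUnit ((ι.stalkMap z) _)
    have e1 : T.presheaf.germ (A true) z hzU (sf true) = 1 := map_one _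
    rw [key true z hzU, e1]
    exact isUnit_one
  · have e : X.basicOpen (X.presheaf.map (homOfLE (le_top : U ≤ ⊤)).op f) = X.basicOpen f :=
      (Scheme.basicOpen_res X f _).trans (inf_eq_right.mpr hle)
    rw [← e]
    exact hU.basicOpen _

/-- Multiplication by a global function. -/
noncomputable def mult (f : Γ(X, ⊤)) : Coh.structureModule X ⟶ Coh.structureModule X :=
  Groth.Agent.Lib.ClSub.Cartier.ofSection (Coh.structureModule X) f

theorem mult_app (f : Γ(X, ⊤)) (V : X.Opens) (r : Γ(X, V)) :
    (mult f).app V r =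
      (r * X.presheaf.map (homOfLE (le_top : V ≤ ⊤)).op f : Γ(X, V)) := rfl

/-- A section of the structure module, as a function. -/
abbrev sec {U : X.Opens} (r : Γ(Coh.structureModule X, U)) : Γ(X, U) := r

theorem mult_app_top (f : Γ(X, ⊤)) (r : Γ(Coh.structureModule X, ⊤)) :
    sec ((mult f).app ⊤ r) = sec r * f := by
  refine (mult_app f ⊤ r).trans ?_
  change sec r * _ = sec r * f
  exact congrArg (sec r * ·) congr($(X.presheaf.map_id (op ⊤)) f)

/-- The free module of rank `n`, as a product. -/
noncomputable abbrev free (X : Scheme.{u}) (n : ℕ) : X.Modules :=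
  ∏ᶜ (fun _ : Fin n => Coh.structureModule X)

theorem isQCoh_free (n : ℕ) : (free X n).IsQuasicoherent := by
  haveI : HasFiniteBiproducts X.Modules := HasFiniteBiproducts.of_hasFiniteCoproducts
  haveI : HasBiproductsOfShape (Fin n) X.Modules := HasFiniteBiproducts.out n
  haveI : HasBiproduct (fun _ : Fin n => Coh.structureModule X) :=
    HasBiproductsOfShape.has_biproduct _
  have hc : ((∐ fun _ : Fin n => Coh.structureModule X) : X.Modules).IsQuasicoherent :=
    QCoh.Closure.isQCoh_of_isColimit (coproductIsCoproduct fun _ : Fin n => Coh.structureModule X)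
      fun _ => TensorMod.QCohInv.isQCoh_structureModule X
  let F : Fin n → X.Modules := fun _ => Coh.structureModule X
  haveI : HasBiproduct F := HasBiproductsOfShape.has_biproduct F
  exact (SheafOfModules.isQuasicoherent X.ringCatSheaf).prop_of_iso
    ((biproduct.isoCoproduct F).symm ≪≫ biproduct.isoProduct F) hc

/-- The map `O^n → O` given by `n` functions. -/
noncomputable def row {n : ℕ} (f : Fin n → Γ(X, ⊤)) : free X n ⟶ Coh.structureModule X :=
  ∑ i, Pi.π _ i ≫ mult (f i)

theorem row_app_top {n : ℕ} (f : Fin n → Γ(X, ⊤)) (m : Γ(free X n, ⊤)) :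
    sec ((row f).app ⊤ m) =
      ∑ i, sec ((Pi.π (fun _ : Fin n => Coh.structureModule X) i).app ⊤ m) * f i := by
  let φ : (free X n ⟶ Coh.structureModule X) →+ Γ(X, ⊤) :=
    AddMonoidHom.mk' (fun g => sec (g.app ⊤ m)) fun _ _ => rfl
  exact (map_sum φ _ _).trans (Finset.sum_congr rfl fun i _ => mult_app_top (f i) _)

theorem single_row {n : ℕ} (f : Fin n → Γ(X, ⊤)) (i : Fin n) :
    Pi.lift (fun j => if j = i then 𝟙 (Coh.structureModule X) else 0) ≫ row f = mult (f i) := by
  rw [row, Preadditive.comp_sum, Finset.sum_eq_single i]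
  · rw [limit.lift_π_assoc]; simp
  · intro j _ hj
    rw [limit.lift_π_assoc]; simp [hj]
  · simp

theorem epi_row {n : ℕ} (f : Fin n → Γ(X, ⊤)) (hcov : ∀ x : X, ∃ i, x ∈ X.basicOpen (f i)) :
    Epi (row f) := by
  refine (Modules.Stalk.epi_iff_stalk_surjective _).mpr fun x =>
    Groth.Agent.Lib.ClSub.Basis.stalk_surjective_of_basis (row f) x fun U hxU => ?_
  obtain ⟨i, hi⟩ := hcov x
  let W : X.Opens := U ⊓ X.basicOpen (f i)
  refine ⟨W, inf_le_left, ⟨hxU, hi⟩, fun r => ?_⟩
  let fW : Γ(X, W) := X.presheaf.map (homOfLE (le_top : W ≤ ⊤)).op (f i)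
  have hu : IsUnit fW := by
    have hb : IsUnit (X.presheaf.map (homOfLE (le_top : X.basicOpen (f i) ≤ ⊤)).op (f i)) :=
      RingedSpace.isUnit_res_basicOpen (X := X.toLocallyRingedSpace.toRingedSpace) (f i)
    have := hb.map (X.presheaf.map (homOfLE (inf_le_right : W ≤ X.basicOpen (f i))).op).hom
    change IsUnit (X.presheaf.map (homOfLE _).op (X.presheaf.map (homOfLE _).op (f i))) at this
    rwa [← CommRingCat.comp_apply, ← Functor.map_comp] at this
  let a : Γ(X, W) := sec r * (hu.unit⁻¹ : _ˣ)
  refine ⟨(Pi.lift fun j => if j = i then 𝟙 (Coh.structureModule X) else 0).app W a, ?_⟩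
  have e : (row f).app W ((Pi.lift fun j => if j = i then 𝟙 (Coh.structureModule X) else 0).app W a) =
      (mult (f i)).app W a := by
    rw [← single_row f i]; rfl
  refine e.trans ((mult_app (f i) W a).trans ?_)
  show sec r * (hu.unit⁻¹ : _ˣ) * fW = sec r
  rw [mul_assoc, IsUnit.val_inv_mul, mul_one]

/-- Serre's criterion, in terms of surjectivity on global sections. -/
theorem isAffine_of_surjective [CompactSpace X]
    (hJ : ∀ K : X.IdealSheafData, Function.Surjective (K.subschemeι.app ⊤))
    (hrow : ∀ (n : ℕ) (f : Fin n → Γ(X, ⊤)), Epi (row f) →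
      Function.Surjective ((row f).app ⊤)) : IsAffine X := by
  let ι := {f : Γ(X, ⊤) // IsAffineOpen (X.basicOpen f)}
  have hcov : ∀ x : X, ∃ f : ι, x ∈ X.basicOpen f.1 := by
    by_contra h
    push Not at h
    obtain ⟨x, hx⟩ := h
    let S : Set X := (⋃ f : ι, (X.basicOpen f.1 : Set X))ᶜ
    have hS : IsClosed S := (isOpen_iUnion fun f : ι => (X.basicOpen f.1).2).isClosed_compl
    obtain ⟨y, hyS, hy⟩ := hS.exists_closed_singleton ⟨x, by simpa [S] using hx⟩
    obtain ⟨f, hyf, hf⟩ := exists_basicOpen_of_isClosed_singleton hJ hy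
    exact hyS (Set.mem_iUnion.mpr ⟨⟨f, hf⟩, hyf⟩)
  obtain ⟨s, hs⟩ := (isCompact_univ (X := X)).elim_finite_subcover
    (fun f : ι => (X.basicOpen f.1 : Set X)) (fun f => (X.basicOpen f.1).2)
    (fun x _ => Set.mem_iUnion.mpr (hcov x))
  let f : Fin s.card → Γ(X, ⊤) := fun i => (s.equivFin.symm i).1.1
  have hf : ∀ x : X, ∃ i, x ∈ X.basicOpen (f i) := fun x => by
    obtain ⟨g, hg, hxg⟩ := Set.mem_iUnion₂.mp (hs (Set.mem_univ x))
    exact ⟨s.equivFin ⟨g, hg⟩, by simpa [f] using hxg⟩
  obtain ⟨m, hm⟩ := hrow _ f (epi_row f hf) (show Γ(Coh.structureModule X, ⊤) from (1 : Γ(X, ⊤)))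
  replace hm : sec ((row f).app ⊤ m) = 1 := hm
  rw [row_app_top] at hm
  refine isAffine_of_isAffineOpen_basicOpen (Set.range f) ?_ ?_
  · rw [Ideal.eq_top_iff_one, ← hm]
    exact Ideal.sum_mem _ fun i _ => Ideal.mul_mem_left _ _ (Ideal.subset_span ⟨i, rfl⟩)
  · rintro _ ⟨i, rfl⟩
    exact (s.equivFin.symm i).1.2

/-- All quasi-coherent submodules of `O^n` have no `H¹` if ideals have none. -/
theorem h1_of_mono_free
    (h : ∀ (I : X.Modules) (i : I ⟶ Coh.structureModule X), Mono i →
      Coh.IsQCoh I → Subsingleton (Coh.HH X I 1))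
    (n : ℕ) : ∀ (K : X.Modules) (j : K ⟶ free X n), Mono j → K.IsQuasicoherent →
      Subsingleton (Coh.HH X K 1) := by
  induction n with
  | zero =>
    intro K j hj hK
    refine h K 0 (Preadditive.mono_of_cancel_zero _ fun g _ => ?_) hK
    rw [← cancel_mono j, zero_comp]
    exact Pi.hom_ext _ _ fun i => i.elim0
  | succ n ih =>
    intro K j hj hK
    haveI := hK
    haveI := TensorMod.QCohInv.isQCoh_structureModule X
    let q : K ⟶ Coh.structureModule X := j ≫ Pi.π _ (Fin.last n)
    let q' := Abelian.factorThruImage q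
    haveI := QCoh.Closure.isQCoh_cokernel q
    haveI : (Abelian.image q).IsQuasicoherent := QCoh.Closure.isQCoh_kernel (cokernel.π q)
    haveI := QCoh.Closure.isQCoh_kernel q'
    let S : ShortComplex X.Modules := ShortComplex.mk _ _ (kernel.condition q')
    have hS : S.ShortExact :=
      { exact := ShortComplex.exact_of_f_is_kernel _ (kernelIsKernel _)
        mono_f := inferInstanceAs (Mono (kernel.ι q'))
        epi_g := inferInstanceAs (Epi (Abelian.factorThruImage q)) }
    refine Groth.Agent.H34.HOne.h1_of_shortExact hS ?_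
      (h _ (Abelian.image.ι q) inferInstance inferInstance)
    refine ih (kernel q')
      (kernel.ι q' ≫ j ≫ Pi.lift fun i : Fin n => Pi.π _ i.castSucc) ?_ inferInstance
    refine Preadditive.mono_of_cancel_zero _ fun g hg => ?_
    rw [← cancel_mono (kernel.ι q'), zero_comp, ← cancel_mono j, zero_comp]
    refine Pi.hom_ext _ _ fun i => ?_
    rw [zero_comp]
    induction i using Fin.lastCases with
    | last =>
      have hq : j ≫ Pi.π _ (Fin.last n) = q' ≫ Abelian.image.ι q := (Abelian.image.fac q).symm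
      rw [Category.assoc, Category.assoc, hq, kernel.condition_assoc q', zero_comp, comp_zero]
    | cast i =>
      have := congrArg (· ≫ Pi.π _ i) hg
      simpa [Category.assoc] using this

/-- Serre's criterion. -/
theorem isAffine_of_h1 [CompactSpace X]
    (h : ∀ (I : X.Modules) (i : I ⟶ Coh.structureModule X), Mono i →
      Coh.IsQCoh I → Subsingleton (Coh.HH X I 1)) : IsAffine X := by
  haveI := TensorMod.QCohInv.isQCoh_structureModule X
  refine isAffine_of_surjective (fun K => ?_) (fun n f hf => ?_)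
  · haveI : ((_root_.ClSub.quotMod K) : X.Modules).IsQuasicoherent := by
      haveI := TensorMod.QCohInv.isQCoh_structureModule K.subscheme
      exact QCoh.Pushforward.isQCoh_pushforward K.subschemeι (M := Coh.structureModule K.subscheme)
    haveI : (_root_.ClSub.idealMod K).IsQuasicoherent :=
      QCoh.Closure.isQCoh_kernel (_root_.ClSub.toSubscheme K)
    exact Groth.Agent.H34.HOne.app_top_surjective
      (Groth.Agent.Lib.ClSub.Quot.idealSeq_shortExact K)
      (h _ (_root_.ClSub.idealModι K) (Groth.Agent.Lib.ClSub.Quot.mono_idealModι K) ‹(_root_.ClSub.idealMod K).IsQuasicoherent›)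
  · haveI := isQCoh_free (X := X) n
    haveI := hf
    let S : ShortComplex X.Modules := ShortComplex.mk _ _ (kernel.condition (row f))
    have hS : S.ShortExact :=
      { exact := ShortComplex.exact_of_f_is_kernel _ (kernelIsKernel _)
        mono_f := inferInstanceAs (Mono (kernel.ι (row f)))
        epi_g := hf }
    exact Groth.Agent.H34.HOne.app_top_surjective hS
      (h1_of_mono_free h n _ (kernel.ι (row f)) inferInstance (QCoh.Closure.isQCoh_kernel _))

end ZarCoh.SerreAff
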